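import Cfsg.Agent.Lib.Invol.MaxNorm.Basic
import Cfsg.Agent.S4211
import Cfsg.Agent.S2117
import Cfsg.Agent.Lib.Grp.SchurM.Basic

/-!
# General facts used for the radical in S4233
-/

set_option autoImplicit false
set_option linter.style.haveILetI false

namespace Cfsg.Agent.Invol.MaxNorm

open Subgroup

universe u v w

/-- An element is generated by its parts of prime power order. -/
theorem mem_of_prime_parts {G : Type u} [Group G] [Finite G] (L : Subgroup G) (g : G)
    (h : ∀ p k : ℕ, p.Prime → p ^ k ∣ orderOf g → g ^ (orderOf g / p ^ k) ∈ L) : g ∈ L := by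
  have hd : orderOf g ∣ Nat.card ↥(L ⊓ zpowers g) := by
    rw [Nat.dvd_iff_prime_pow_dvd_dvd]
    intro p k hp hpk
    have ho : orderOf (g ^ (orderOf g / p ^ k)) = p ^ k := orderOf_pow_orderOf_div (orderOf_pos g).ne' hpk
    rw [← ho]
    exact orderOf_dvd_natCard _ ⟨h p k hp hpk, pow_mem (mem_zpowers g) _⟩
  have he : L ⊓ zpowers g = zpowers g := eq_of_le_of_card_ge inf_le_right (by
    rw [Nat.card_zpowers]; exact Nat.le_of_dvd Nat.card_pos hd)
  exact (he.symm ▸ mem_zpowers g : g ∈ L ⊓ zpowers g).1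

/-- In a nonabelian simple group with a Sylow subgroup of prime order some element acts nontrivially on it. -/
theorem exists_moved {P : Type u} [Group P] [Finite P] [IsSimpleGroup P] (hP : ¬ Group.IsSolvable P) {q : ℕ}
    [Fact q.Prime] (hq : q ∣ Nat.card P) (hq2 : ¬ q ^ 2 ∣ Nat.card P) :
    ∃ u g : P, orderOf u = q ∧ g * u * g⁻¹ ∈ zpowers u ∧ g * u * g⁻¹ ≠ u := by
  obtain ⟨Q⟩ : Nonempty (Sylow q P) := inferInstance
  obtain ⟨u, hu⟩ := exists_prime_orderOf_dvd_card' (G := (Q : Subgroup P)) q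
    (by simpa using Q.pow_dvd_card_of_pow_dvd_card (n := 1) (by rwa [pow_one]))
  have hQ : zpowers (u : P) = (Q : Subgroup P) := by
    refine eq_of_le_of_card_ge (zpowers_le.2 u.2) ?_
    rw [Nat.card_zpowers, Subgroup.orderOf_coe, hu]
    obtain ⟨j, hj⟩ := Q.isPGroup'.exists_card_eq
    rw [hj]
    refine (Nat.pow_le_pow_right (Fact.out : q.Prime).pos (show j ≤ 1 from ?_)).trans (pow_one q).le
    by_contra hlt
    exact hq2 ((Nat.pow_dvd_pow q (by omega : 2 ≤ j)).trans (hj ▸ card_subgroup_dvd_card _))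
  by_contra hne
  push Not at hne
  have hN : normalizer ((Q : Subgroup P) : Set P) ≤ centralizer ((Q : Subgroup P) : Set P) := by
    intro g hg
    refine mem_centralizer_iff.2 fun y hy => ?_
    have h1 : Commute g (u : P) := mul_inv_eq_iff_eq_mul.1 (hne u g (by rw [Subgroup.orderOf_coe, hu])
      (hQ.symm ▸ (mem_normalizer_iff.1 hg (u : P)).1 u.2))
    obtain ⟨i, rfl⟩ := mem_zpowers_iff.1 (hQ.symm ▸ hy : y ∈ zpowers (u : P))
    exact ((h1.zpow_right i).eq).symm
  have hc := MonoidHom.ker_transferSylow_isComplement' Q hN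
  rcases (MonoidHom.normal_ker (MonoidHom.transferSylow Q hN)).eq_bot_or_eq_top with e | e
  · rw [e, isComplement'_bot_left] at hc
    haveI := Q.isPGroup'.isNilpotent
    exact hP (Group.isSolvable_of_surjective
      (f := ((MulEquiv.subgroupCongr hc).trans topEquiv).toMonoidHom) (MulEquiv.surjective _))
  · rw [e, isComplement'_top_left] at hc
    exact Q.ne_bot_of_dvd_card hq hc

/-- An element of `l`-power order normalising a cyclic `p`-group and acting trivially on its top
section centralises it. -/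
theorem commute_of_coprime_action {G : Type u} [Group G] [Finite G] {p l : ℕ} (hp : p.Prime) (hl : l.Prime)
    (hne : p ≠ l) {x r : G} {a b : ℕ} (hx : orderOf x = p ^ a) (hr : orderOf r = l ^ b) {i : ℤ}
    (hi : r * x * r⁻¹ = x ^ i) (hi1 : (p : ℤ) ∣ i - 1) : Commute r x := by
  have hpow : ∀ n : ℕ, r ^ n * x * (r ^ n)⁻¹ = x ^ (i ^ n) := by
    intro n
    induction n with
    | zero => simp
    | succ n ih =>
      calc r ^ (n + 1) * x * (r ^ (n + 1))⁻¹ = r * (r ^ n * x * (r ^ n)⁻¹) * r⁻¹ := by rw [pow_succ']; group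
        _ = x ^ (i * i ^ n) := by rw [ih, ← conj_zpow, hi, ← zpow_mul]
        _ = _ := by rw [pow_succ']
  have h1 : r ^ p ^ a * x * (r ^ p ^ a)⁻¹ = x := by
    rw [hpow]
    have hd : ((p ^ (a + 1) : ℕ) : ℤ) ∣ i ^ p ^ a - 1 := by
      have := dvd_sub_pow_of_dvd_sub (R := ℤ) (p := p) (a := i) (b := 1) hi1 a
      rw [one_pow] at this
      exact_mod_cast this
    have hd' : (orderOf x : ℤ) ∣ i ^ p ^ a - 1 :=
      (Int.natCast_dvd_natCast.2 (hx ▸ pow_dvd_pow p (Nat.le_succ a))).trans hd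
    obtain ⟨c, hc⟩ := hd'
    rw [show i ^ p ^ a = (orderOf x : ℤ) * c + 1 by omega, zpow_add, zpow_mul, zpow_natCast,
      pow_orderOf_eq_one, one_zpow, one_mul, zpow_one]
  obtain ⟨m, hm⟩ := exists_pow_eq_self_of_coprime (x := r) (n := p ^ a)
    (by rw [hr]; exact ((Nat.coprime_primes hp hl).2 hne).pow a b)
  exact hm ▸ (show Commute (r ^ p ^ a) x from mul_inv_eq_iff_eq_mul.1 h1).pow_left m

/-- A perfect central extension is an image of a perfect group with trivial multiplier. -/
theorem exists_cover_hom {Δ : Type u} [Group Δ] [Finite Δ] (hM : Cfsg.HasCyclicSchurMultiplier Δ 1)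
    (hperf : commutator Δ = ⊤) {Q : Type v} [Group Q] (θ : Δ →* Q) (hθ : Function.Surjective θ)
    {E : Type w} [Group E] (hE : commutator E = ⊤) (π : E →* Q) (hπ : Function.Surjective π)
    (hcπ : π.ker ≤ Subgroup.center E) :
    ∃ τ : Δ →* E, Function.Surjective τ ∧ π.comp τ = θ := by
  let P : Subgroup (E × Δ) :=
    (π.comp (MonoidHom.fst _ _)).eqLocus (θ.comp (MonoidHom.snd _ _))
  let ρ : ↥P →* Δ := (MonoidHom.snd _ _).comp P.subtype
  let σ : ↥P →* E := (MonoidHom.fst _ _).comp P.subtype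
  have hρ : Function.Surjective ρ := fun x => by
    obtain ⟨g, hg⟩ := hπ (θ x)
    exact ⟨⟨(g, x), hg⟩, rfl⟩
  have hσ : Function.Surjective σ := fun g => by
    obtain ⟨x, hx⟩ := hθ (π g)
    exact ⟨⟨(g, x), hx.symm⟩, rfl⟩
  have hcρ : ρ.ker ≤ Subgroup.center ↥P := by
    rintro ⟨⟨g, x⟩, hgx⟩ he
    obtain rfl : x = 1 := he
    have he' : g ∈ π.ker := by
      rw [MonoidHom.mem_ker]
      exact (show π g = θ 1 from hgx).trans (map_one θ)
    rw [Subgroup.mem_center_iff]
    rintro ⟨⟨f, y⟩, hfy⟩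
    exact Subtype.ext (Prod.ext (Subgroup.mem_center_iff.1 (hcπ he') f)
      ((mul_one y).trans (one_mul y).symm))
  have h0 := Grp.SchurM.inf_commutator_eq_bot hM ρ hρ hcρ
  let r : ↥(commutator ↥P) →* Δ := ρ.comp (commutator ↥P).subtype
  have hbij : Function.Bijective r := by
    refine ⟨(injective_iff_map_eq_one r).2 fun k hk => Subtype.ext ?_, fun x => ?_⟩
    · rw [Subgroup.coe_one, ← Subgroup.mem_bot, ← h0]
      exact ⟨hk, k.2⟩
    · have : x ∈ (commutator ↥P).map ρ := by
        rw [commutator_def, Subgroup.map_commutator, Subgroup.map_top_of_surjective ρ hρ,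
          ← commutator_def, hperf]
        trivial
      obtain ⟨k, hk, rfl⟩ := Subgroup.mem_map.1 this
      exact ⟨⟨k, hk⟩, rfl⟩
  refine ⟨σ.comp ((commutator ↥P).subtype.comp (MulEquiv.ofBijective r hbij).symm.toMonoidHom),
    fun g => ?_, MonoidHom.ext fun x => ?_⟩
  · have : g ∈ (commutator ↥P).map σ := by
      rw [commutator_def, Subgroup.map_commutator, Subgroup.map_top_of_surjective σ hσ,
        ← commutator_def, hE]
      trivial
    obtain ⟨k, hk, rfl⟩ := Subgroup.mem_map.1 this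
    refine ⟨MulEquiv.ofBijective r hbij ⟨k, hk⟩, ?_⟩
    simp only [MonoidHom.comp_apply, MulEquiv.coe_toMonoidHom, MulEquiv.symm_apply_apply]
    rfl
  · obtain ⟨k, rfl⟩ := hbij.2 x
    simp only [MonoidHom.comp_apply, MulEquiv.coe_toMonoidHom]
    rw [show r k = MulEquiv.ofBijective r hbij k from rfl, MulEquiv.symm_apply_apply]
    exact (k : ↥P).2

/-- An odd order group with all cyclic subgroups of prime power order normal is abelian. -/
theorem isMulCommutative_of_odd {S : Type u} [Group S] [Finite S] (hodd : Odd (Nat.card S))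
    (hn : ∀ (c : S) (p k : ℕ), p.Prime → orderOf c = p ^ k → ∀ g : S, g * c * g⁻¹ ∈ zpowers c) :
    IsMulCommutative S := by
  have hall : ∀ H : Subgroup S, H.Normal := fun H => ⟨fun a ha g => by
    show a ∈ H.comap (MulAut.conj g).toMonoidHom
    refine mem_of_prime_parts _ a fun p k hp hd => mem_comap.2 ?_
    exact zpowers_le.2 (pow_mem ha _) (hn _ p k hp (orderOf_pow_orderOf_div (orderOf_pos a).ne' hd) g)⟩
  by_contra hna
  obtain ⟨Q, -, -, ⟨e⟩, -⟩ := Cfsg.Agent.S4211.result hna hall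
  have h8 : 2 ∣ Nat.card Q := by
    rw [Nat.card_congr e.toEquiv, Nat.card_eq_fintype_card, QuaternionGroup.card]; norm_num
  exact Nat.not_even_iff_odd.2 hodd (even_iff_two_dvd.2 (h8.trans (card_subgroup_dvd_card Q)))

end Cfsg.Agent.Invol.MaxNorm
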