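import Cfsg.Agent.Lib.Grp.Components
import Cfsg.Agent.Lib.Grp.Basic
import Cfsg.Agent.Lib.Grp.Cores
import Cfsg.Agent.Lib.Grp.Wielandt.Basic
import Cfsg.Agent.Lib.Transfer.NormCyc.Local
import Cfsg.Agent.Lib.Invol.ZStar
import Cfsg.Agent.S0205
import Cfsg.Agent.S0144

/-!
# Groups with trivial radical in which normalisers of small solvable subgroups are maximal (for S4233)
-/

set_option autoImplicit false
set_option linter.style.haveILetI false

namespace Cfsg.Agent.Invol.MaxNorm

open Subgroup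
open scoped Pointwise

universe u

/-- The order has at most two prime divisors. -/
def TwoPr {G : Type u} [Group G] (H : Subgroup G) : Prop :=
  ∃ p q : ℕ, p.Prime ∧ q.Prime ∧ ∀ r : ℕ, r.Prime → r ∣ Nat.card H → r = p ∨ r = q

/-- Trivial radical, not solvable, and every nontrivial solvable subgroup with at most two primes
has a maximal normaliser. -/
structure MN (G : Type u) [Group G] : Prop where
  ns : ¬ Group.IsSolvable G
  rad : ∀ N : Subgroup G, N.Normal → Group.IsSolvable N → N = ⊥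
  coatom : ∀ H : Subgroup G, H ≠ ⊥ → Group.IsSolvable H → TwoPr H → IsCoatom (normalizer (H : Set G))

variable {G : Type u} [Group G] [Finite G]

theorem isSolvable_twoPr {H : Subgroup G} (h : TwoPr H) : Group.IsSolvable H := by
  obtain ⟨p, q, hp, hq, hpq⟩ := h
  rcases eq_or_ne p q with rfl | hne
  · exact Cfsg.Agent.S0144.result p p ((Nat.card H).factorization p) 0 hp hp (by
      rw [pow_zero, mul_one]
      refine Nat.eq_pow_of_factorization_eq_single Nat.card_pos.ne' ?_
      ext r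
      rcases eq_or_ne r p with rfl | hr
      · simp
      · rw [Finsupp.single_eq_of_ne hr]
        by_contra hc
        have hr' : r ∈ (Nat.card H).factorization.support := Finsupp.mem_support_iff.2 hc
        rw [Nat.support_factorization, Nat.mem_primeFactors] at hr'
        exact hr ((hpq r hr'.1 hr'.2.1).elim id id))
  · refine Cfsg.Agent.S0144.result p q ((Nat.card H).factorization p) ((Nat.card H).factorization q) hp hq ?_
    conv_lhs => rw [← Nat.factorization_prod_pow_eq_self (Nat.card_pos (α := H)).ne']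
    rw [Finsupp.prod_of_support_subset _ (s := {p, q}) ?_ _ (fun _ _ => pow_zero _), Finset.prod_pair hne]
    intro r hr
    rw [Nat.support_factorization, Nat.mem_primeFactors] at hr
    rcases hpq r hr.1 hr.2.1 with rfl | rfl <;> simp

theorem twoPr_pGroup {p : ℕ} (hp : p.Prime) {H : Subgroup G} (hH : IsPGroup p H) : TwoPr H := by
  haveI := Fact.mk hp
  obtain ⟨k, hk⟩ := hH.exists_card_eq
  exact ⟨p, p, hp, hp, fun r hr hd => Or.inl
    ((Nat.prime_dvd_prime_iff_eq hr hp).1 (hr.dvd_of_dvd_pow (hk ▸ hd)))⟩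

theorem twoPr_of_dvd {p q a b : ℕ} (hp : p.Prime) (hq : q.Prime) {H : Subgroup G}
    (hH : Nat.card H ∣ p ^ a * q ^ b) : TwoPr H :=
  ⟨p, q, hp, hq, fun r hr hd => ((hr.dvd_mul).1 (hd.trans hH)).imp
    (fun h => (Nat.prime_dvd_prime_iff_eq hr hp).1 (hr.dvd_of_dvd_pow h))
    (fun h => (Nat.prime_dvd_prime_iff_eq hr hq).1 (hr.dvd_of_dvd_pow h))⟩

theorem isPGroup_zpowers {p : ℕ} {x : G} {k : ℕ} (h : orderOf x = p ^ k) : IsPGroup p (zpowers x) :=
  IsPGroup.of_card (n := k) (by rw [Nat.card_zpowers, h])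

theorem mem_normalizer_of_map_mem {H : Subgroup G} {g : G} (h : ∀ a ∈ H, g * a * g⁻¹ ∈ H) :
    g ∈ normalizer (H : Set G) := by
  refine Grp.Wielandt.mem_normalizer_of_le ?_
  rw [← Grp.map_conj_eq_smul]
  rintro _ ⟨a, ha, rfl⟩
  exact h a ha

namespace MN

variable (h : MN G)
include h

theorem normalizer_ne_top {H : Subgroup G} (hH : H ≠ ⊥) (hs : Group.IsSolvable H) :
    normalizer (H : Set G) ≠ ⊤ := fun e => hH (h.rad H (normalizer_eq_top_iff.1 e) hs)

theorem coatom' {H : Subgroup G} (hH : H ≠ ⊥) (h2 : TwoPr H) : IsCoatom (normalizer (H : Set G)) :=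
  h.coatom H hH (isSolvable_twoPr h2) h2

theorem norm_eq {A B : Subgroup G} (hA : A ≠ ⊥) (hA2 : TwoPr A) (hB : B ≠ ⊥) (hB2 : TwoPr B)
    (hle : normalizer (A : Set G) ≤ normalizer (B : Set G)) :
    normalizer (A : Set G) = normalizer (B : Set G) :=
  (((h.coatom' hA hA2).le_iff).1 hle).resolve_left (h.normalizer_ne_top hB (isSolvable_twoPr hB2)) |>.symm

/-- Commuting subgroups of coprime prime power order have the same normaliser. -/
theorem norm_comm {p q : ℕ} (hp : p.Prime) (hq : q.Prime) (hpq : p ≠ q) {A B : Subgroup G}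
    (hA : IsPGroup p A) (hA1 : A ≠ ⊥) (hB : IsPGroup q B) (hB1 : B ≠ ⊥)
    (hc : ∀ a ∈ A, ∀ b ∈ B, a * b = b * a) : normalizer (A : Set G) = normalizer (B : Set G) := by
  haveI := Fact.mk hp
  haveI := Fact.mk hq
  have hcop : ∀ {p' q' : ℕ}, p'.Prime → q'.Prime → p' ≠ q' → ∀ {A B : Subgroup G}, IsPGroup p' A →
      IsPGroup q' B → (∀ a ∈ A, ∀ b ∈ B, a * b = b * a) →
      normalizer ((A ⊔ B : Subgroup G) : Set G) ≤ normalizer (A : Set G) := by
    intro p' q' hp' hq' hne A B hA hB hc g hg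
    haveI := Fact.mk hp'
    haveI := Fact.mk hq'
    have hle : A ≤ normalizer (B : Set G) := fun a ha => mem_normalizer_of_map_mem fun b hb => by
      rw [hc a ha b hb, mul_inv_cancel_right]; exact hb
    refine mem_normalizer_of_map_mem fun a ha => ?_
    have h1 : g * a * g⁻¹ ∈ A ⊔ B := (mem_normalizer_iff.1 hg a).1 (mem_sup_left ha)
    rw [← SetLike.mem_coe, coe_mul_of_left_le_normalizer_right A B hle] at h1
    obtain ⟨a', ha', b, hb, e⟩ := h1
    have e : a' * b = g * a * g⁻¹ := e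
    obtain ⟨i, hi⟩ := hA ⟨a, ha⟩
    obtain ⟨j, hj⟩ := hA ⟨a', ha'⟩
    obtain ⟨k, hk⟩ := hB ⟨b, hb⟩
    have hb1 : b = 1 := by
      have hb' : b = a'⁻¹ * (g * a * g⁻¹) := by rw [← e, inv_mul_cancel_left]
      have hcm : Commute a'⁻¹ (g * a * g⁻¹) := by
        rw [← e]
        exact ((Commute.refl a').inv_left.mul_right ((show Commute a' b from hc a' ha' b hb).inv_left))
      have hpb : b ^ p' ^ (j + i) = 1 := by
        rw [hb', hcm.mul_pow, inv_pow, conj_pow, pow_add, pow_mul,
          show a' ^ p' ^ j = 1 from congrArg Subtype.val hj, one_pow, inv_one, one_mul, mul_comm (p' ^ j),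
          pow_mul, show a ^ p' ^ i = 1 from congrArg Subtype.val hi, one_pow, mul_one, mul_inv_cancel]
      exact orderOf_eq_one_iff.1 (Nat.eq_one_of_dvd_coprimes
        (Nat.Coprime.pow _ _ ((Nat.coprime_primes hp' hq').2 hne))
        (orderOf_dvd_of_pow_eq_one hpb) (orderOf_dvd_of_pow_eq_one (congrArg Subtype.val hk)))
    rw [← e, hb1, mul_one]
    exact ha'
  obtain ⟨i, hi⟩ := hA.exists_card_eq
  obtain ⟨j, hj⟩ := hB.exists_card_eq
  have hAB : A ≤ normalizer (B : Set G) := fun a ha => mem_normalizer_of_map_mem fun b hb => by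
    rw [hc a ha b hb, mul_inv_cancel_right]; exact hb
  have hS2 : TwoPr (A ⊔ B) := twoPr_of_dvd hp hq (a := i) (b := j) (hi ▸ hj ▸ Grp.card_sup_dvd_mul hAB)
  have hS1 : A ⊔ B ≠ ⊥ := ne_bot_of_le_ne_bot hA1 le_sup_left
  have h1 := h.norm_eq hS1 hS2 hA1 (twoPr_pGroup hp hA) (hcop hp hq hpq hA hB hc)
  have h2 := h.norm_eq hS1 hS2 hB1 (twoPr_pGroup hq hB) (by
    rw [sup_comm]; exact hcop hq hp hpq.symm hB hA fun b hb a ha => (hc a ha b hb).symm)
  rw [← h1, h2]

theorem coatom_centralizer {t : G} (ht : orderOf t = 2) : IsCoatom (centralizer ({t} : Set G)) := by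
  rw [← Transfer.NormCyc.normalizer_zpowers_invol ht]
  exact h.coatom' (fun e => by
    rw [zpowers_eq_bot] at e; rw [e, orderOf_one] at ht; norm_num at ht)
    (twoPr_pGroup Nat.prime_two (isPGroup_zpowers (k := 1) (by rw [ht, pow_one])))

/-- A subnormal solvable subgroup is trivial. -/
theorem subnormal_eq_bot {R : Subgroup G} (hR : R.IsSubnormal) (hs : Group.IsSolvable R) : R = ⊥ := by
  have hF : Cfsg.fittingSubgroup G = ⊥ := by
    haveI := Grp.fittingSubgroup_isNilpotent (G := G)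
    exact h.rad _ Grp.fittingSubgroup_isNormal inferInstance
  refine le_bot_iff.1 (hF ▸ Grp.solvable_subnormal_le_fitting (Nat.card R) R rfl hR hs ?_)
  rw [hF]
  exact fun x _ => mem_centralizer_iff.2 fun y hy => by
    rw [SetLike.mem_coe, mem_bot] at hy; rw [hy, one_mul, mul_one]

theorem even_card : 2 ∣ Nat.card G :=
  even_iff_two_dvd.1 (Nat.not_odd_iff_even.1 fun hodd => h.ns (Cfsg.Agent.S0205.result hodd))

/-- No involution is isolated. -/
theorem not_isolated {t : G} (ht : Cfsg.IsIsolatedInvolution t) : False := by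
  obtain ⟨N, hN, hodd, hc⟩ := Cfsg.Agent.ZStar.exists_odd_normal ht
  have hN1 : N = ⊥ := h.rad N hN (Cfsg.Agent.S0205.result hodd)
  have htc : t ∈ center G := mem_center_iff.2 fun g =>
    (mul_inv_eq_iff_eq_mul.1 (mul_inv_eq_one.1 (mem_bot.1 (hN1 ▸ hc g)))).symm
  have := h.rad (center G) inferInstance (Group.isSolvable_of_comm fun a b =>
    Subtype.ext (mem_center_iff.1 b.2 a))
  have h1 := ht.1
  rw [show t = 1 from mem_bot.1 (this ▸ htc), orderOf_one] at h1
  norm_num at h1

end MN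

end Cfsg.Agent.Invol.MaxNorm
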