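import Cfsg.Agent.Lib.Classical.DicksonCentral
import Cfsg.Agent.Lib.Classical.DicksonKleinCount
import Cfsg.Agent.Lib.Invol.GW.Klein.LinearPSL
import Cfsg.Agent.Lib.Invol.MaxNorm.GroupFacts

/-!
# Facts about `SL(2,13)` and `PSL(2,13)` (for S4233)
-/

set_option autoImplicit false
set_option linter.style.haveILetI false

namespace Cfsg.Agent.Invol.MaxNorm

open Subgroup

local notation "S13" => Matrix.SpecialLinearGroup (Fin 2) (ZMod 13)
local notation "P13" => Matrix.ProjectiveSpecialLinearGroup (Fin 2) (ZMod 13)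

instance fact_thirteen : Fact (Nat.Prime 13) := ⟨by norm_num⟩

theorem odd_zmod13 : Odd (Fintype.card (ZMod 13)) := by rw [ZMod.card]; decide

theorem simple_P13 : IsSimpleGroup P13 :=
  Invol.GW.Klein.PSL.isSimple (F := ZMod 13) (by rw [ZMod.card]; norm_num)

theorem not_solvable_P13 : ¬ Group.IsSolvable P13 :=
  Invol.GW.Klein.PSL.not_isSolvable (F := ZMod 13) (by rw [ZMod.card]; norm_num)

theorem card_P13 : Nat.card P13 = 1092 := by
  have h := Dickson.card_psl (F := ZMod 13)
  rcases Dickson.del_cases (ZMod 13) with ⟨-, he⟩ | ⟨hd, -⟩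
  · exact absurd he (Nat.not_even_iff_odd.2 odd_zmod13)
  · rw [hd, ZMod.card] at h
    omega

theorem card_center_S13 : Nat.card (Subgroup.center S13) = 2 := by
  rw [Classical.natCard_center_SL, Classical.natCard_units_field, ZMod.card]
  decide

theorem commutator_S13 : commutator S13 = ⊤ :=
  Classical.SL_commutator_eq_top fun _ => Classical.exists_sq_ne_one_field (by rw [ZMod.card]; norm_num)

theorem multiplier_S13 : Cfsg.HasCyclicSchurMultiplier S13 1 :=
  Cfsg.Agent.S2117.result (F := ZMod 13) (by rw [ZMod.card]; norm_num) (by rw [ZMod.card]; norm_num)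

/-- `diag(5, 8)`. -/
def slA : S13 := ⟨!![5, 0; 0, 8], by decide +kernel⟩

/-- The Weyl element. -/
def slB : S13 := ⟨!![0, 1; 12, 0], by decide +kernel⟩

/-- An element of order three permuting the three quaternion subgroups. -/
def slD : S13 := ⟨!![2, 3; 2, 10], by decide +kernel⟩

theorem sl_facts : slA * slA = -1 ∧ slB * slB = -1 ∧ slB * slA = -(slA * slB) ∧
    slD * slA = slA * slB * slD ∧ slD * slB = slA * slD ∧
    slA ≠ 1 ∧ slA ≠ -1 ∧ slB ≠ 1 ∧ slB ≠ -1 ∧ slB ≠ slA ∧ slB ≠ -slA := by decide +kernel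

/-- A four group of `PSL(2,13)` and an element permuting its involutions. -/
theorem exists_permuted_four : ∃ u v d : P13, ∃ hu : u * u = 1, ∃ hv : v * v = 1, ∃ huv : u * v = v * u,
    u ≠ 1 ∧ v ≠ 1 ∧ u ≠ v ∧ d * u * d⁻¹ = u * v ∧ d * v * d⁻¹ = u ∧
      Nat.card (Dickson.fourGroup hu hv huv) = 4 := by
  obtain ⟨hA, hB, hBA, hDA, hDB, hA1, hA2, hB1, hB2, hAB1, hAB2⟩ := sl_facts
  let π : S13 →* P13 := PSL2Spec.proj
  have hneg : ∀ x : S13, π (-x) = π x := Dickson.proj_neg
  have hone : ∀ x : S13, π x = 1 → x = 1 ∨ x = -1 := fun x hx => by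
    rcases (Dickson.proj_eq_iff (x := 1) (y := x)).1 (by rw [map_one]; exact hx.symm) with e | e
    · exact Or.inl e
    · exact Or.inr e
  have hu : π slA * π slA = 1 := by rw [← map_mul, hA, hneg, map_one]
  have hv : π slB * π slB = 1 := by rw [← map_mul, hB, hneg, map_one]
  have huv : π slA * π slB = π slB * π slA := by rw [← map_mul, ← map_mul, hBA, hneg]
  have hu1 : π slA ≠ 1 := fun e => (hone _ e).elim hA1 hA2
  have hv1 : π slB ≠ 1 := fun e => (hone _ e).elim hB1 hB2
  have hne : π slA ≠ π slB := fun e => (Dickson.proj_eq_iff.1 e).elim hAB1 hAB2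
  refine ⟨π slA, π slB, π slD, hu, hv, huv, hu1, hv1, hne, ?_, ?_,
    (Dickson.isKleinFour_fourGroup hu hv huv hu1 hv1 hne).card_four⟩
  · rw [mul_inv_eq_iff_eq_mul, ← map_mul, ← map_mul, ← map_mul, hDA]
  · rw [mul_inv_eq_iff_eq_mul, ← map_mul, ← map_mul, hDB]

end Cfsg.Agent.Invol.MaxNorm
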