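import Cfsg.Agent.Lib.Invol.MaxNorm.Quotient
import Cfsg.Agent.Lib.Invol.MaxNorm.Model13

/-!
# Maximal normalisers: the radical is a direct factor (for S4233)
-/

set_option autoImplicit false
set_option linter.style.haveILetI false

namespace Cfsg.Agent.Invol.MaxNorm

open Subgroup
open scoped Pointwise

universe u

variable {G : Type u} [Group G] [Finite G]

/-- The position of the radical. -/
structure Ext (R : Subgroup G) [R.Normal] : Prop where
  norm : ∀ H : Subgroup G, TwoPr H → ¬ H ≤ R → normalizer (H : Set G) =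
    (normalizer ((H.map (QuotientGroup.mk' R) : Subgroup (G ⧸ R)) : Set (G ⧸ R))).comap (QuotientGroup.mk' R)
  iso : Nonempty (G ⧸ R ≃* Matrix.ProjectiveSpecialLinearGroup (Fin 2) (ZMod 13))

/-- The radical and the quotient. -/
theorem exists_ext (hns : ¬ Group.IsSolvable G) (h : Hyp G) :
    ∃ (R : Subgroup G) (_ : R.Normal), Ext R := by
  obtain ⟨R, hRn, hRs, hRmax⟩ := exists_radical (G := G)
  haveI := hRn
  exact ⟨R, hRn, fun H hH hHR => (normalizer_eq_comap h hRs hRmax hH hHR).1,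
    (mn_quotient h hRs hRmax hns).iso_thirteen⟩

namespace Ext

variable {R : Subgroup G} [R.Normal] (E : Ext R)

local notation "π" => QuotientGroup.mk' R

theorem map_R : R.map π = ⊥ := by rw [Subgroup.map_eq_bot_iff, QuotientGroup.ker_mk']

include E

theorem simple : IsSimpleGroup (G ⧸ R) ∧ ¬ Group.IsSolvable (G ⧸ R) ∧ Nat.card (G ⧸ R) = 1092 := by
  obtain ⟨e⟩ := E.iso
  haveI := simple_P13
  refine ⟨e.isSimpleGroup, fun hs => not_solvable_P13 ?_, (Nat.card_congr e.toEquiv).trans card_P13⟩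
  haveI := hs
  exact Group.isSolvable_of_surjective (f := e.toMonoidHom) e.surjective

theorem R_le_normalizer {H : Subgroup G} (hH : TwoPr H) (hHR : ¬ H ≤ R) : R ≤ normalizer (H : Set G) := by
  intro r hr
  rw [E.norm H hH hHR, mem_comap, show π r = 1 from (QuotientGroup.eq_one_iff r).2 hr]
  exact one_mem _

omit [Finite G] E in
theorem sup_R_eq_top {W : Subgroup G} (hW : W.map π = ⊤) : W ⊔ R = ⊤ := by
  have h := comap_map_eq π W
  rw [hW, comap_top, QuotientGroup.ker_mk'] at h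
  exact h.symm

omit E in
theorem map_of_sup {W : Subgroup G} (hW : W ⊔ R = ⊤) : W.map π = ⊤ := by
  have h := congrArg (Subgroup.map π) hW
  rwa [Subgroup.map_sup, map_R, sup_bot_eq, map_top_of_surjective π (QuotientGroup.mk'_surjective R)] at h

theorem normal_cases {W : Subgroup G} (hW : W.Normal) : W ≤ R ∨ W ⊔ R = ⊤ := by
  obtain ⟨hs, -, -⟩ := E.simple
  haveI := hs
  rcases (hW.map π (QuotientGroup.mk'_surjective R)).eq_bot_or_eq_top with e | e
  · rw [Subgroup.map_eq_bot_iff, QuotientGroup.ker_mk'] at e; exact Or.inl e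
  · exact Or.inr (sup_R_eq_top e)

/-- The perfect supplement. -/
theorem exists_core : ∃ K : Subgroup G, K.Normal ∧ K ⊔ R = ⊤ ∧ ⁅K, K⁆ = K ∧
    ∀ W : Subgroup G, W.Normal → W ⊔ R = ⊤ → K ≤ W := by
  obtain ⟨K, hK⟩ := (Set.toFinite {K : Subgroup G | K.Normal ∧ K ⊔ R = ⊤}).exists_minimal
    ⟨⊤, inferInstance, top_sup_eq R⟩
  obtain ⟨hKn, hKR⟩ := hK.1
  haveI := hKn
  obtain ⟨hs, hns, -⟩ := E.simple
  haveI := hs
  have hcomm : commutator (G ⧸ R) = ⊤ :=
    ((inferInstance : (commutator (G ⧸ R)).Normal).eq_bot_or_eq_top).resolve_left fun e =>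
      hns (Group.isSolvable_of_comm fun a b => commutatorElement_eq_one_iff_mul_comm.1
        (mem_bot.1 (e ▸ commutator_mem_commutator (mem_top a) (mem_top b))))
  have key : ∀ W : Subgroup G, W.Normal → W ⊔ R = ⊤ → K ≤ W ∧ ⁅K, W⁆ = K := by
    intro W hW hWR
    haveI := hW
    have h1 : ⁅K, W⁆ ⊔ R = ⊤ := sup_R_eq_top (by
      rw [Subgroup.map_commutator, map_of_sup hKR, map_of_sup hWR, ← commutator_def]
      exact hcomm)
    have h2 : K ≤ ⁅K, W⁆ := hK.2 (show (⁅K, W⁆).Normal ∧ _ from ⟨inferInstance, h1⟩) (commutator_le_left K W)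
    exact ⟨h2.trans (commutator_le_right K W), le_antisymm (commutator_le_left K W) h2⟩
  exact ⟨K, hKn, hKR, (key K hKn hKR).2, fun W hW hWR => (key W hW hWR).1⟩

/-- Elements of prime power order outside the radical, for any prime dividing `1092`. -/
theorem exists_lift {p : ℕ} (hp : p.Prime) {K : Subgroup G} (hKR : K ⊔ R = ⊤) {u : G ⧸ R} (hu : orderOf u = p) :
    ∃ x ∈ K, π x ∈ zpowers u ∧ π x ≠ 1 ∧ ∃ a : ℕ, orderOf x = p ^ a := by
  obtain ⟨g, hg, hgu⟩ := (map_of_sup hKR).symm ▸ mem_top u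
  obtain ⟨a, m, hm, ho⟩ := Nat.exists_eq_pow_mul_and_not_dvd (orderOf_pos g).ne' p hp.ne_one
  refine ⟨g ^ m, pow_mem hg m, by rw [map_pow, hgu]; exact pow_mem (mem_zpowers u) m, fun e => hm ?_, a, ?_⟩
  · rw [map_pow, hgu] at e
    exact hu ▸ orderOf_dvd_of_pow_eq_one e
  · have hm0 : m ≠ 0 := fun e => hm (e ▸ dvd_zero p)
    rw [orderOf_pow_of_dvd hm0 (ho ▸ dvd_mul_left m _), ho, Nat.mul_div_cancel _ (Nat.pos_of_ne_zero hm0)]

theorem exists_orderOf_quotient {p : ℕ} (hp : p.Prime) (hd : p ∣ 1092) : ∃ u : G ⧸ R, orderOf u = p := by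
  haveI := Fact.mk hp
  exact exists_prime_orderOf_dvd_card' p (E.simple.2.2.symm ▸ hd)

variable {K : Subgroup G} (hKn : K.Normal) (hKR : K ⊔ R = ⊤)
  (hKmin : ∀ W : Subgroup G, W.Normal → W ⊔ R = ⊤ → K ≤ W)
include hKn hKR hKmin

/-- The core centralises the radical. -/
theorem core_cent : ∀ k ∈ K, ∀ r ∈ R, k * r = r * k := by
  have hpart : ∀ (l b : ℕ) (r : G), l.Prime → r ∈ R → orderOf r = l ^ b → r ∈ centralizer (K : Set G) := by
    intro l b r hl hr ho
    set T := {c : G | c ∈ R ∧ ∃ j, orderOf c = l ^ j} with hT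
    have hTn : (centralizer T).Normal := ⟨fun w hw g => mem_centralizer_iff.2 fun c hc => by
      have hc' : g⁻¹ * c * g ∈ T := by
        obtain ⟨j, hj⟩ := hc.2
        refine ⟨by simpa using (inferInstance : R.Normal).conj_mem c hc.1 g⁻¹, j, ?_⟩
        rw [← hj, show g⁻¹ * c * g = g⁻¹ * c * g⁻¹⁻¹ by group]
        exact orderOf_injective (MulAut.conj g⁻¹).toMonoidHom (MulAut.conj g⁻¹).injective c
      have h1 := mem_centralizer_iff.1 hw _ hc'
      calc c * (g * w * g⁻¹) = g * ((g⁻¹ * c * g) * w) * g⁻¹ := by group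
        _ = g * (w * (g⁻¹ * c * g)) * g⁻¹ := by rw [h1]
        _ = _ := by group⟩
    obtain ⟨p, hp, hpl, hpd⟩ : ∃ p, p.Prime ∧ p ≠ l ∧ p ∣ 1092 := by
      by_cases h13 : l = 13
      · exact ⟨7, by norm_num, by omega, by norm_num⟩
      · exact ⟨13, by norm_num, Ne.symm h13, by norm_num⟩
    obtain ⟨u, hu⟩ := E.exists_orderOf_quotient hp hpd
    obtain ⟨x, -, -, hx1, a, hxa⟩ := E.exists_lift hp hKR hu
    have hxR : x ∉ R := fun e => hx1 ((QuotientGroup.eq_one_iff x).2 e)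
    have hRN : R ≤ normalizer (zpowers x : Set G) :=
      E.R_le_normalizer (twoPr_pGroup hp (isPGroup_zpowers hxa)) fun e => hxR (e (mem_zpowers x))
    have hxT : x ∈ centralizer T := mem_centralizer_iff.2 fun c ⟨hcR, j, hj⟩ => by
      obtain ⟨i, hi⟩ := mem_zpowers_iff.1 ((mem_normalizer_iff.1 (hRN hcR) x).1 (mem_zpowers x))
      refine (commute_of_coprime_action hp hl hpl hxa hj hi.symm ?_).eq
      have h1 := congrArg π hi
      rw [map_zpow, map_mul, map_mul, map_inv, show π c = 1 from (QuotientGroup.eq_one_iff c).2 hcR, one_mul,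
        inv_one, mul_one] at h1
      have h2 : π x ^ (i - 1) = 1 := by rw [zpow_sub_one, h1, mul_inv_cancel]
      obtain ⟨s, -, hs⟩ := (Nat.dvd_prime_pow hp).1 (hxa ▸ orderOf_map_dvd π x)
      have hs0 : s ≠ 0 := fun e => hx1 (orderOf_eq_one_iff.1 (by rw [hs, e, pow_zero]))
      exact (Int.natCast_dvd_natCast.2 (hs ▸ dvd_pow_self p hs0)).trans (orderOf_dvd_iff_zpow_eq_one.2 h2)
    have hKW : K ≤ centralizer T :=
      hKmin _ hTn ((E.normal_cases hTn).resolve_left fun hle => hxR (hle hxT))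
    exact mem_centralizer_iff.2 fun k hk => (mem_centralizer_iff.1 (hKW hk) r ⟨hr, b, ho⟩).symm
  intro k hk r hr
  exact mem_centralizer_iff.1 (mem_of_prime_parts (centralizer (K : Set G)) r fun p j hp hd =>
    hpart p j _ hp (pow_mem hr _) (orderOf_pow_orderOf_div (orderOf_pos r).ne' hd)) k hk

theorem inf_central : R ⊓ K ≤ center G := by
  intro z ⟨hzR, hzK⟩
  have hle : (⊤ : Subgroup G) ≤ centralizer ({z} : Set G) := hKR ▸ sup_le
    (fun k hk => mem_centralizer_singleton_iff.2 (E.core_cent hKn hKR hKmin k hk z hzR))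
    (fun r hr => mem_centralizer_singleton_iff.2 (E.core_cent hKn hKR hKmin z hzK r hr).symm)
  exact mem_center_iff.2 fun g => mem_centralizer_singleton_iff.1 (hle (mem_top g))

theorem core_iso (hperf : ⁅K, K⁆ = K) :
    (Nonempty (K ≃* Matrix.ProjectiveSpecialLinearGroup (Fin 2) (ZMod 13)) ∨
      Nonempty (K ≃* Matrix.SpecialLinearGroup (Fin 2) (ZMod 13))) ∧
    Nat.card ↥(R ⊓ K) ∣ 2 ∧ Nat.card K ∣ 2184 := by
  obtain ⟨e⟩ := E.iso
  set θ : K →* Matrix.ProjectiveSpecialLinearGroup (Fin 2) (ZMod 13) :=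
    e.toMonoidHom.comp ((QuotientGroup.mk' R).comp K.subtype) with hθdef
  have hθ : Function.Surjective θ := fun q => by
    obtain ⟨x, hx, hxe⟩ := (map_of_sup hKR).symm ▸ mem_top (e.symm q)
    exact ⟨⟨x, hx⟩, by
      show e (π x) = q
      rw [hxe, MulEquiv.apply_symm_apply]⟩
  have hker : θ.ker = (R ⊓ K).subgroupOf K := by
    ext x
    rw [MonoidHom.mem_ker, mem_subgroupOf]
    constructor
    · intro hx
      exact ⟨(QuotientGroup.eq_one_iff (x : G)).1 (e.injective (hx.trans e.map_one.symm)), x.2⟩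
    · intro hx
      show e (π (x : G)) = 1
      rw [show π (x : G) = 1 from (QuotientGroup.eq_one_iff (x : G)).2 hx.1, map_one]
  have hcen : θ.ker ≤ Subgroup.center K := fun x hx => mem_center_iff.2 fun y => Subtype.ext
    (mem_center_iff.1 (E.inf_central hKn hKR hKmin (hker ▸ hx : x ∈ (R ⊓ K).subgroupOf K)) (y : G))
  have hK : commutator K = ⊤ := by
    refine map_injective K.subtype_injective ?_
    rw [commutator_def, Subgroup.map_commutator, ← MonoidHom.range_eq_map, range_subtype, hperf]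
  obtain ⟨τ, hτ, hτθ⟩ := exists_cover_hom multiplier_S13 commutator_S13
    (QuotientGroup.mk' _ : Matrix.SpecialLinearGroup (Fin 2) (ZMod 13) →* _)
    (QuotientGroup.mk'_surjective _) hK θ hθ hcen
  have hkle : τ.ker ≤ Subgroup.center (Matrix.SpecialLinearGroup (Fin 2) (ZMod 13)) := fun x hx => by
    have h1 : θ (τ x) = 1 := by rw [MonoidHom.mem_ker.1 hx, map_one]
    rw [← MonoidHom.comp_apply, hτθ] at h1
    exact (QuotientGroup.eq_one_iff x).1 h1
  have hS : Nat.card (Matrix.SpecialLinearGroup (Fin 2) (ZMod 13)) = 2184 := by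
    rw [(Subgroup.center _).card_eq_card_quotient_mul_card_subgroup, card_center_S13]
    show Nat.card (Matrix.ProjectiveSpecialLinearGroup (Fin 2) (ZMod 13)) * 2 = _
    rw [card_P13]
  have hdK : Nat.card K ∣ 2184 := hS ▸ card_dvd_of_surjective τ hτ
  refine ⟨?_, ?_, hdK⟩
  · rcases eq_or_ne τ.ker ⊥ with e' | e'
    · exact Or.inr ⟨(MulEquiv.ofBijective τ ⟨(MonoidHom.ker_eq_bot_iff τ).1 e', hτ⟩).symm⟩
    · have h1 : τ.ker = Subgroup.center _ := eq_of_le_of_card_ge hkle (by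
        rw [card_center_S13]
        exact (one_lt_card_iff_ne_bot _).2 e')
      exact Or.inl ⟨(QuotientGroup.quotientKerEquivOfSurjective τ hτ).symm.trans
        (QuotientGroup.quotientMulEquivOfEq h1)⟩
  · have h1 := θ.ker.card_eq_card_quotient_mul_card_subgroup
    rw [Nat.card_congr (QuotientGroup.quotientKerEquivOfSurjective θ hθ).toEquiv, card_P13, hker,
      Nat.card_congr (subgroupOfEquivOfLe inf_le_right).toEquiv] at h1
    rw [h1, show 2184 = 1092 * 2 by norm_num] at hdK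
    exact Nat.dvd_of_mul_dvd_mul_left (by norm_num : 0 < 1092) hdK

/-- No element of order three, seven or thirteen lies in the radical. -/
theorem radical_prime (hperf : ⁅K, K⁆ = K) {q : ℕ} (hq : q.Prime) (hq2 : q ≠ 2) (hqd : q ∣ 1092)
    (hq1 : ¬ q ^ 2 ∣ 1092) {r : G} (hr : r ∈ R) (ho : orderOf r = q) : False := by
  haveI := Fact.mk hq
  obtain ⟨hs, hns, hcard⟩ := E.simple
  haveI := hs
  obtain ⟨u, gb, hu, hgu, hne⟩ := exists_moved (q := q) hns (hcard ▸ hqd) (hcard ▸ hq1)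
  obtain ⟨g, hgK, hg⟩ := (map_of_sup hKR).symm ▸ mem_top gb
  obtain ⟨x, hxK, hxu, hx1, a, hxa⟩ := E.exists_lift hq hKR hu
  have hzp : zpowers (π x) = zpowers u := eq_of_le_of_card_ge (zpowers_le.2 hxu) (by
    rw [Nat.card_zpowers, Nat.card_zpowers, hu]
    have h1 := hu ▸ orderOf_dvd_of_mem_zpowers hxu
    rcases (Nat.dvd_prime hq).1 h1 with e | e
    · exact absurd (orderOf_eq_one_iff.1 e) hx1
    · rw [e])
  have hxR : x ∉ R := fun e => hx1 ((QuotientGroup.eq_one_iff x).2 e)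
  have hN : ∀ y : G, π y = π x → (∃ b, orderOf y = q ^ b) → g * y * g⁻¹ ∈ zpowers y := by
    intro y hy ⟨b, hb⟩
    have hyR : y ∉ R := fun e => hx1 (hy ▸ (QuotientGroup.eq_one_iff y).2 e)
    have hmem : g ∈ normalizer (zpowers y : Set G) := by
      rw [E.norm _ (twoPr_pGroup hq (isPGroup_zpowers hb)) (fun e => hyR (e (mem_zpowers y))), mem_comap,
        MonoidHom.map_zpowers, hy, hzp, hg]
      exact Transfer.NormCyc.mem_normalizer_zpowers hgu
    exact (mem_normalizer_iff.1 hmem y).1 (mem_zpowers y)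
  obtain ⟨j, hj⟩ := mem_zpowers_iff.1 (hN x rfl ⟨a, hxa⟩)
  have hxr : Commute x r := E.core_cent hKn hKR hKmin x hxK r hr
  obtain ⟨i, hi⟩ := mem_zpowers_iff.1 (hN (x * r)
    (by rw [map_mul, show π r = 1 from (QuotientGroup.eq_one_iff r).2 hr, mul_one]) (by
      obtain ⟨b, -, hb⟩ := (Nat.dvd_prime_pow hq).1 ((hxr.orderOf_mul_dvd_mul_orderOf).trans
        (dvd_of_eq (by rw [hxa, ho, pow_succ])))
      exact ⟨b, hb⟩))
  rw [show g * (x * r) * g⁻¹ = (g * x * g⁻¹) * (g * r * g⁻¹) by group, ← hj,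
    E.core_cent hKn hKR hKmin g hgK r hr, mul_inv_cancel_right, hxr.mul_zpow] at hi
  have e2 : x ^ (i - j) = r * (r ^ i)⁻¹ := by
    rw [eq_mul_inv_iff_mul_eq, show i - j = -j + i by ring, zpow_add, mul_assoc, hi, ← mul_assoc, ← zpow_add,
      neg_add_cancel, zpow_zero, one_mul]
  have hzR : x ^ (i - j) ∈ R := e2 ▸ mul_mem hr (inv_mem (zpow_mem hr i))
  have hz1 : x ^ (i - j) = 1 := by
    refine orderOf_eq_one_iff.1 (Nat.eq_one_of_dvd_coprimes (a := q ^ a) (b := 2)
      (Nat.Coprime.pow_left a ((Nat.coprime_primes hq Nat.prime_two).2 hq2)) ?_ ?_)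
    · exact hxa ▸ orderOf_dvd_of_mem_zpowers (zpow_mem (mem_zpowers x) _)
    · exact (orderOf_dvd_natCard (R ⊓ K) ⟨hzR, zpow_mem hxK _⟩).trans
        (E.core_iso hKn hKR hKmin hperf).2.1
  rw [hz1] at e2
  have hri : r ^ i = r := mul_inv_eq_one.1 e2.symm |>.symm
  have hgx : g * x * g⁻¹ = x ^ i := by
    rw [← hj, show i = j + (i - j) by ring, zpow_add, hz1, mul_one]
  have hq' : (q : ℤ) ∣ i - 1 := ho ▸ orderOf_dvd_iff_zpow_eq_one.2 (by rw [zpow_sub_one, hri, mul_inv_cancel])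
  refine hne ?_
  have h1 : π (g * x * g⁻¹) = π x ^ i := by rw [hgx, map_zpow]
  rw [map_mul, map_mul, map_inv, hg] at h1
  have hox : orderOf (π x) = q := by rw [← Nat.card_zpowers, hzp, Nat.card_zpowers, hu]
  have h2 : gb * π x * gb⁻¹ = π x := by
    obtain ⟨c, hc⟩ := hq'
    rw [h1, show i = (q : ℤ) * c + 1 by omega, zpow_add, zpow_mul, zpow_natCast, ← hox, pow_orderOf_eq_one,
      one_zpow, one_mul, zpow_one]
  obtain ⟨m, hm⟩ := mem_zpowers_iff.1 (hzp ▸ mem_zpowers u : u ∈ zpowers (π x))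
  rw [← hm, ← conj_zpow, h2]

/-- Elements of two-power order of the radical lie in the core. -/
theorem radical_two (hperf : ⁅K, K⁆ = K) {r : G} {b : ℕ} (hr : r ∈ R) (hb : orderOf r = 2 ^ b) : r ∈ K := by
  haveI := Fact.mk Nat.prime_two
  obtain ⟨e⟩ := E.iso
  obtain ⟨u, v, d, hu, hv, huv, hu1, hv1, hne, hdu, hdv, hV4⟩ := exists_permuted_four
  set V := Dickson.fourGroup hu hv huv with hV
  set φ := e.toMonoidHom.comp (QuotientGroup.mk' R) with hφ
  have hφR : ∀ s ∈ R, φ s = 1 := fun s hs => by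
    show e (π s) = 1
    rw [show π s = 1 from (QuotientGroup.eq_one_iff s).2 hs, map_one]
  have hlift : ∀ q, ∃ x ∈ K, φ x = q := fun q => by
    obtain ⟨x, hx, hxe⟩ := (map_of_sup hKR).symm ▸ mem_top (e.symm q)
    exact ⟨x, hx, by show e (π x) = q; rw [hxe, MulEquiv.apply_symm_apply]⟩
  set W := V.comap φ ⊓ K with hW
  have hWp : IsPGroup 2 W := by
    let f : W →* V := (φ.comp W.subtype).codRestrict V fun w => mem_comap.1 w.2.1
    have h1 := f.ker.card_mul_index
    have h2 : Nat.card f.ker ∣ Nat.card ↥(R ⊓ K) := by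
      rw [← card_map_of_injective W.subtype_injective]
      refine card_dvd_of_le ?_
      rintro _ ⟨w, hw, rfl⟩
      have hw1 : φ (w : G) = 1 := congrArg Subtype.val hw
      exact ⟨(QuotientGroup.eq_one_iff (w : G)).1 (e.injective (hw1.trans e.map_one.symm)), w.2.2⟩
    have h3 : f.ker.index ∣ 4 := by
      rw [index_ker, ← hV4]; exact card_subgroup_dvd_card _
    have h4 : Nat.card W ∣ 2 ^ 3 := by
      rw [← h1, show (2 : ℕ) ^ 3 = 2 * 4 by norm_num]
      exact Nat.mul_dvd_mul (h2.trans (E.core_iso hKn hKR hKmin hperf).2.1) h3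
    obtain ⟨k, -, hk⟩ := (Nat.dvd_prime_pow Nat.prime_two).1 h4
    exact IsPGroup.of_card hk
  have hmemW : ∀ x ∈ K, φ x ∈ V → x ∈ W := fun x hx hxV => ⟨mem_comap.2 hxV, hx⟩
  obtain ⟨a, haK, ha⟩ := hlift u
  obtain ⟨c, hcK, hc⟩ := hlift v
  obtain ⟨g, hgK, hg⟩ := hlift d
  have huV : u ∈ V := Or.inr (Or.inl rfl)
  have hvV : v ∈ V := Or.inr (Or.inr (Or.inl rfl))
  have hrK : ∀ x ∈ K, Commute x r := fun x hx => E.core_cent hKn hKR hKmin x hx r hr
  have hWR : W ⊔ zpowers r ≤ W ⊔ zpowers r := le_rfl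
  have hnr : W ≤ normalizer (zpowers r : Set G) := fun w hw => Transfer.NormCyc.mem_normalizer_zpowers (by
    rw [(hrK w hw.2).eq, mul_inv_cancel_right]; exact mem_zpowers r)
  have hbig : IsPGroup 2 ↥(W ⊔ zpowers r) := IsPGroup.to_sup_of_normal_right' hWp (isPGroup_zpowers hb) hnr
  -- the index two condition
  let X : Subgroup G :=
    { carrier := {y | ∃ w ∈ W, ∃ n : ℤ, y = w * r ^ n ∧ (φ w = u ^ n ∨ φ w = u ^ n * v)}
      one_mem' := ⟨1, one_mem _, 0, by simp, Or.inl (by simp)⟩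
      mul_mem' := by
        rintro _ _ ⟨w, hw, n, rfl, h1⟩ ⟨w', hw', n', rfl, h2⟩
        refine ⟨w * w', mul_mem hw hw', n + n', ?_, ?_⟩
        · rw [zpow_add, mul_assoc w, ← mul_assoc (r ^ n), ← ((hrK w' hw'.2).zpow_right n).eq]
          simp only [mul_assoc]
        · have hc1 : v * u ^ n' = u ^ n' * v := ((show Commute u v from huv).zpow_left n').eq.symm
          rw [map_mul]
          rcases h1 with e1 | e1 <;> rcases h2 with e2 | e2 <;> rw [e1, e2]
          · exact Or.inl (zpow_add u n n').symm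
          · exact Or.inr (by rw [← mul_assoc, zpow_add])
          · exact Or.inr (by rw [mul_assoc, hc1, ← mul_assoc, zpow_add])
          · refine Or.inl ?_
            rw [show u ^ n * v * (u ^ n' * v) = u ^ n * (v * u ^ n') * v by group, hc1,
              show u ^ n * (u ^ n' * v) * v = u ^ n * u ^ n' * (v * v) by group, hv, mul_one, zpow_add]
      inv_mem' := by
        rintro _ ⟨w, hw, n, rfl, h1⟩
        refine ⟨w⁻¹, inv_mem hw, -n, ?_, ?_⟩
        · rw [mul_inv_rev, ← zpow_neg, ((hrK w hw.2).inv_left.zpow_right (-n)).eq]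
        · rw [map_inv]
          rcases h1 with e1 | e1 <;> rw [e1]
          · exact Or.inl (zpow_neg u n).symm
          · refine Or.inr ?_
            rw [mul_inv_rev, inv_eq_of_mul_eq_one_right hv, ← zpow_neg,
              ((show Commute u v from huv).zpow_left (-n)).eq] }
  set H := zpowers (a * r) ⊔ zpowers c with hH
  have hHle : H ≤ W ⊔ zpowers r := sup_le
    (zpowers_le.2 (mul_mem_sup (hmemW a haK (by rw [ha]; exact huV)) (mem_zpowers r)))
    (zpowers_le.2 (mem_sup_left (hmemW c hcK (by rw [hc]; exact hvV))))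
  have hHX : H ≤ X := by
    refine sup_le (zpowers_le.2 ?_) (zpowers_le.2 ?_)
    · exact ⟨a, hmemW a haK (by rw [ha]; exact huV), 1, by rw [zpow_one], Or.inl (by rw [ha, zpow_one])⟩
    · exact ⟨c, hmemW c hcK (by rw [hc]; exact hvV), 0, by simp, Or.inr (by rw [hc]; simp)⟩
  have hφH : H.map φ = V := by
    refine le_antisymm ?_ ?_
    · rw [map_le_iff_le_comap, hH, sup_le_iff, zpowers_le, zpowers_le, mem_comap, mem_comap, map_mul,
        hφR r hr, mul_one, ha, hc]
      exact ⟨huV, hvV⟩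
    · have h1 : u ∈ H.map φ := ⟨a * r, mem_sup_left (mem_zpowers _), by rw [map_mul, hφR r hr, mul_one, ha]⟩
      have h2 : v ∈ H.map φ := ⟨c, mem_sup_right (mem_zpowers _), hc⟩
      rintro x (rfl | rfl | rfl | rfl)
      exacts [one_mem _, h1, h2, mul_mem h1 h2]
  have hHR : ¬ H ≤ R := fun hle => hu1 (by
    obtain ⟨x, hx, hxe⟩ := hφH.symm ▸ huV
    rw [← hxe, hφR x (hle hx)])
  have hgN : g ∈ normalizer (H : Set G) := by
    rw [E.norm H (twoPr_pGroup Nat.prime_two (hbig.to_le hHle)) hHR, mem_comap]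
    refine mem_normalizer_of_map_mem ?_
    rintro _ ⟨y, hy, rfl⟩
    have hyV : φ y ∈ V := hφH ▸ ⟨y, hy, rfl⟩
    have hmem : d * φ y * d⁻¹ ∈ H.map φ := by
      rw [hφH]
      rcases hyV with e | e | e | e <;> rw [e]
      · rw [mul_one, mul_inv_cancel]; exact one_mem _
      · rw [hdu]; exact mul_mem huV hvV
      · rw [hdv]; exact huV
      · rw [show d * (u * v) * d⁻¹ = (d * u * d⁻¹) * (d * v * d⁻¹) by group, hdu, hdv]
        exact mul_mem (mul_mem huV hvV) huV
    obtain ⟨z, hz, hze⟩ := hmem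
    refine ⟨z, hz, e.injective ?_⟩
    show φ z = e _
    rw [hze, map_mul, map_mul, map_inv]
    show _ = φ g * φ y * (φ g)⁻¹
    rw [hg]
  obtain ⟨w, hw, n, hwn, h1⟩ := hHX ((mem_normalizer_iff.1 hgN c).1 (mem_sup_right (mem_zpowers c)))
  have hφw : φ w = u := by
    have h2 := congrArg φ hwn
    rw [map_mul, map_mul, map_inv, hg, hc, hdv, map_mul, map_zpow, hφR r hr, one_zpow, mul_one] at h2
    exact h2.symm
  have hnodd : Odd n := by
    rcases Int.even_or_odd' n with ⟨k, rfl | rfl⟩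
    · exfalso
      rw [hφw, zpow_mul, zpow_two, hu, one_zpow, one_mul] at h1
      rcases h1 with e1 | e1
      · exact hu1 e1
      · exact hne e1
    · exact ⟨k, rfl⟩
  have hrn : r ^ n ∈ K := by
    have : r ^ n = w⁻¹ * (g * c * g⁻¹) := by rw [hwn, inv_mul_cancel_left]
    rw [this]
    exact mul_mem (inv_mem hw.2) (mul_mem (mul_mem hgK hcK) (inv_mem hgK))
  have hco : IsCoprime (n : ℤ) ((2 : ℤ) ^ b) := by
    refine IsCoprime.pow_right ?_
    obtain ⟨k, rfl⟩ := hnodd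
    exact ⟨1, -k, by ring⟩
  obtain ⟨s, t, hst⟩ := hco
  have : r = (r ^ n) ^ s := by
    conv_lhs => rw [← zpow_one r, ← hst]
    rw [zpow_add, mul_comm s, zpow_mul, mul_comm t, zpow_mul r, show (2 : ℤ) ^ b = ((2 ^ b : ℕ) : ℤ) by push_cast; rfl,
      zpow_natCast, ← hb, pow_orderOf_eq_one, one_zpow, mul_one]
  rw [this]
  exact zpow_mem hrn s

/-- The odd part of the radical. -/
theorem exists_complement (hperf : ⁅K, K⁆ = K) :
    ∃ S : Subgroup G, S.Normal ∧ K ⊓ S = ⊥ ∧ K ⊔ S = ⊤ ∧ IsMulCommutative S ∧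
      (Nat.card K).Coprime (Nat.card S) := by
  haveI := Fact.mk Nat.prime_two
  obtain ⟨-, hZ2, hK2⟩ := E.core_iso hKn hKR hKmin hperf
  obtain ⟨P⟩ : Nonempty (Sylow 2 R) := inferInstance
  have hPZ : ∀ x : R, x ∈ (P : Subgroup R) → (x : G) ∈ K := fun x hx => by
    obtain ⟨j, hj⟩ := (IsPGroup.iff_orderOf.1 P.isPGroup') ⟨x, hx⟩
    rw [Subgroup.orderOf_mk] at hj
    exact E.radical_two hKn hKR hKmin hperf x.2 (by rw [Subgroup.orderOf_coe, hj])
  have hPc : ∀ x : R, x ∈ (P : Subgroup R) → x ∈ Subgroup.center R := fun x hx => mem_center_iff.2 fun y =>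
    Subtype.ext (mem_center_iff.1 (E.inf_central hKn hKR hKmin ⟨x.2, hPZ x hx⟩) (y : G))
  have hN : normalizer ((P : Subgroup R) : Set R) ≤ centralizer ((P : Subgroup R) : Set R) := fun x _ =>
    mem_centralizer_iff.2 fun y hy => (mem_center_iff.1 (hPc y hy) x).symm
  have hc := MonoidHom.ker_transferSylow_isComplement' P hN
  set S₀ := (MonoidHom.transferSylow P hN).ker with hS₀
  set S := S₀.map R.subtype with hS
  have hScard : Odd (Nat.card S) := by
    rw [hS, card_map_of_injective R.subtype_injective, ← Nat.not_even_iff_odd, even_iff_two_dvd]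
    exact MonoidHom.not_dvd_card_ker_transferSylow P hN
  have hSmem : ∀ x : G, x ∈ S ↔ x ∈ R ∧ Odd (orderOf x) := by
    intro x
    constructor
    · rintro ⟨y, hy, rfl⟩
      exact ⟨y.2, hScard.of_dvd_nat (orderOf_dvd_natCard _ ⟨y, hy, rfl⟩)⟩
    · rintro ⟨hx, ho⟩
      refine ⟨⟨x, hx⟩, ?_, rfl⟩
      rw [SetLike.mem_coe, hS₀, MonoidHom.mem_ker]
      set y := MonoidHom.transferSylow P hN ⟨x, hx⟩
      have hy : Odd (orderOf y) := ho.of_dvd_nat
        ((orderOf_map_dvd (MonoidHom.transferSylow P hN) (⟨x, hx⟩ : R)).trans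
          (dvd_of_eq (Subgroup.orderOf_mk x hx)))
      obtain ⟨j, hj⟩ := (IsPGroup.iff_orderOf.1 P.isPGroup') y
      exact orderOf_eq_one_iff.1 (Nat.eq_one_of_dvd_coprimes ((Nat.coprime_two_left.2 hy).pow_left j)
        (dvd_of_eq hj) dvd_rfl)
  have hSn : S.Normal := ⟨fun x hx g => by
    rw [hSmem] at hx ⊢
    refine ⟨(inferInstance : R.Normal).conj_mem x hx.1 g, ?_⟩
    rw [show orderOf (g * x * g⁻¹) = orderOf x from
      orderOf_injective (MulAut.conj g).toMonoidHom (MulAut.conj g).injective x]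
    exact hx.2⟩
  have hprime : ∀ q : ℕ, q.Prime → q ∣ 2184 → ¬ q ∣ Nat.card S := by
    intro q hq hqd hqS
    haveI := Fact.mk hq
    obtain ⟨s, hs⟩ := exists_prime_orderOf_dvd_card' q hqS
    have hq2 : q ≠ 2 := fun e => Nat.not_even_iff_odd.2 hScard (even_iff_two_dvd.2 (e ▸ hqS))
    have hq' : q = 3 ∨ q = 7 ∨ q = 13 := by
      have h' : q ∣ 2 ^ 3 * (3 * (7 * 13)) := hqd
      rcases (hq.dvd_mul).1 h' with h'' | h''
      · exact absurd ((Nat.prime_dvd_prime_iff_eq hq Nat.prime_two).1 (hq.dvd_of_dvd_pow h'')) hq2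
      rcases (hq.dvd_mul).1 h'' with h3 | h3
      · exact Or.inl ((Nat.prime_dvd_prime_iff_eq hq Nat.prime_three).1 h3)
      rcases (hq.dvd_mul).1 h3 with h7 | h7
      · exact Or.inr (Or.inl ((Nat.prime_dvd_prime_iff_eq hq (by norm_num)).1 h7))
      · exact Or.inr (Or.inr ((Nat.prime_dvd_prime_iff_eq hq (by norm_num)).1 h7))
    refine E.radical_prime hKn hKR hKmin hperf hq hq2 ?_ ?_ ((hSmem s).1 s.2).1
      (by rw [Subgroup.orderOf_coe, hs])
    · rcases hq' with rfl | rfl | rfl <;> norm_num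
    · rcases hq' with rfl | rfl | rfl <;> norm_num
  have hcop : (Nat.card K).Coprime (Nat.card S) := Nat.coprime_of_dvd fun q hq hqK hqS =>
    hprime q hq (hqK.trans hK2) hqS
  refine ⟨S, hSn, inf_eq_bot_of_coprime hcop, ?_, ?_, hcop⟩
  · refine eq_top_iff.2 (hKR ▸ sup_le le_sup_left fun x hx => ?_)
    obtain ⟨⟨⟨s, hs⟩, ⟨p, hp⟩⟩, hsp⟩ := hc.existsUnique (⟨x, hx⟩ : R) |>.exists
    rw [show x = (s : G) * (p : G) from (congrArg Subtype.val hsp).symm]
    exact mul_mem (mem_sup_right ⟨s, hs, rfl⟩) (mem_sup_left (hPZ p hp))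
  · refine isMulCommutative_of_odd hScard fun c p k hp hc' g => ?_
    obtain ⟨u, hu⟩ := E.exists_orderOf_quotient (p := 13) (by norm_num) (by norm_num)
    obtain ⟨x, hxK, -, hx1, a, hxa⟩ := E.exists_lift (p := 13) (by norm_num) hKR hu
    have hxR : x ∉ R := fun e => hx1 ((QuotientGroup.eq_one_iff x).2 e)
    have hxc : Commute x (c : G) := E.core_cent hKn hKR hKmin x hxK c ((hSmem c).1 c.2).1
    have hn : zpowers x ≤ normalizer (zpowers (c : G) : Set G) := zpowers_le.2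
      (Transfer.NormCyc.mem_normalizer_zpowers (by rw [hxc.eq, mul_inv_cancel_right]; exact mem_zpowers _))
    have hH2 : TwoPr (zpowers x ⊔ zpowers (c : G)) :=
      twoPr_of_dvd (by norm_num : Nat.Prime 13) hp (a := a) (b := k) (by
        refine (Grp.card_sup_dvd_mul hn).trans ?_
        rw [Nat.card_zpowers, Nat.card_zpowers, hxa, Subgroup.orderOf_coe, hc'])
    have hgN := E.R_le_normalizer hH2 (fun e => hxR (e (mem_sup_left (mem_zpowers x)))) ((hSmem g).1 g.2).1
    have hgc := (mem_normalizer_iff.1 hgN (c : G)).1 (mem_sup_right (mem_zpowers _))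
    rw [← SetLike.mem_coe, coe_mul_of_left_le_normalizer_right _ _ hn] at hgc
    obtain ⟨y, hy, z, hz, hyz⟩ := hgc
    obtain ⟨i, rfl⟩ := mem_zpowers_iff.1 hy
    obtain ⟨j, rfl⟩ := mem_zpowers_iff.1 hz
    have hyz : x ^ i * (c : G) ^ j = (g : G) * c * (g : G)⁻¹ := hyz
    have hcS : (g : G) * c * (g : G)⁻¹ * ((c : G) ^ j)⁻¹ ∈ S :=
      mul_mem (hSn.conj_mem _ c.2 _) (inv_mem (zpow_mem c.2 j))
    have hx0 : x ^ i = 1 := by
      rw [← hyz, mul_inv_cancel_right] at hcS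
      have hmem : x ^ i ∈ K ⊓ S := ⟨zpow_mem hxK i, hcS⟩
      rwa [inf_eq_bot_of_coprime hcop, mem_bot] at hmem
    refine mem_zpowers_iff.2 ⟨j, Subtype.ext ?_⟩
    rw [SubgroupClass.coe_zpow, Subgroup.coe_mul, Subgroup.coe_mul, Subgroup.coe_inv, ← hyz, hx0, one_mul]

end Ext

end Cfsg.Agent.Invol.MaxNorm
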