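import Cfsg.Agent.Lib.Invol.MaxNorm.Klein
import Cfsg.Agent.Lib.Grp.Frattini

/-!
# Maximal normalisers: subgroups generated by an element and an inverting involution (for S4233)
-/

set_option autoImplicit false
set_option linter.style.haveILetI false

namespace Cfsg.Agent.Invol.MaxNorm

open Subgroup
open scoped Pointwise

universe u

variable {G : Type u} [Group G]

theorem conj_zpow_of_inv {t b : G} (hinv : t * b * t⁻¹ = b⁻¹) (i : ℤ) : t * b ^ i * t⁻¹ = (b ^ i)⁻¹ := by
  rw [← conj_zpow, hinv, inv_zpow]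

theorem le_normalizer_of_inv {t b : G} (hinv : t * b * t⁻¹ = b⁻¹) [Finite G] :
    zpowers t ≤ normalizer (zpowers b : Set G) :=
  zpowers_le.2 (mem_normalizer_of_map_mem fun a ha => by
    obtain ⟨i, rfl⟩ := mem_zpowers_iff.1 ha
    rw [conj_zpow_of_inv hinv]; exact inv_mem (zpow_mem (mem_zpowers b) i))

theorem mem_dihedral [Finite G] {t b : G} (ht : t * t = 1) (hinv : t * b * t⁻¹ = b⁻¹) {y : G}
    (hy : y ∈ zpowers b ⊔ zpowers t) : y ∈ zpowers b ∨ ∃ i : ℤ, y = b ^ i * t := by
  rw [← SetLike.mem_coe, coe_mul_of_right_le_normalizer_left _ _ (le_normalizer_of_inv hinv)] at hy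
  obtain ⟨c, hc, d, hd, rfl⟩ := hy
  obtain ⟨i, rfl⟩ := mem_zpowers_iff.1 hc
  obtain ⟨j, rfl⟩ := mem_zpowers_iff.1 hd
  have h2 : t ^ (2 : ℤ) = 1 := by rw [zpow_two]; exact ht
  rcases Int.even_or_odd' j with ⟨k, rfl | rfl⟩
  · left
    show b ^ i * t ^ (2 * k) ∈ zpowers b
    rw [zpow_mul, h2, one_zpow, mul_one]; exact zpow_mem (mem_zpowers b) i
  · right
    exact ⟨i, by show b ^ i * t ^ (2 * k + 1) = _; rw [zpow_add, zpow_mul, h2, one_zpow, zpow_one, one_mul]⟩

theorem sq_flip {t b : G} (ht : t * t = 1) (hinv : t * b * t⁻¹ = b⁻¹) (i : ℤ) :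
    b ^ i * t * (b ^ i * t) = 1 := by
  calc b ^ i * t * (b ^ i * t) = b ^ i * (t * b ^ i * t⁻¹) * (t * t) := by group
    _ = 1 := by rw [conj_zpow_of_inv hinv, ht, mul_one, mul_inv_cancel]

variable [Finite G]

theorem card_dihedral_dvd {t b : G} (ht : orderOf t = 2) (hinv : t * b * t⁻¹ = b⁻¹) :
    Nat.card ↥(zpowers b ⊔ zpowers t) ∣ orderOf b * 2 := by
  rw [sup_comm]
  refine (Grp.card_sup_dvd_mul (le_normalizer_of_inv hinv)).trans ?_
  rw [Nat.card_zpowers, Nat.card_zpowers, ht, mul_comm]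

/-- A nontrivial subgroup normalised by a 2-group `T` containing it has an involution centralised by `T`. -/
theorem exists_central_of_normal {T V : Subgroup G} (hT : IsPGroup 2 T) (hVT : V ≤ T) (hV : V ≠ ⊥)
    (hn : T ≤ normalizer (V : Set G)) : ∃ z ∈ V, orderOf z = 2 ∧ ∀ x ∈ T, x * z = z * x := by
  haveI := Fact.mk Nat.prime_two
  haveI := hT.isNilpotent
  haveI : (V.subgroupOf T).Normal := (normal_subgroupOf_iff_le_normalizer hVT).2 hn
  have hV' : V.subgroupOf T ≠ ⊥ := by
    intro e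
    rw [subgroupOf_eq_bot, disjoint_iff, inf_eq_left.2 hVT] at e
    exact hV e
  obtain ⟨c, ⟨hcV, hcZ⟩, hc1⟩ := (bot_or_exists_ne_one _).resolve_left
    (Grp.inf_center_ne_bot (G := T) (V.subgroupOf T) hV')
  have hc1' : (c : G) ≠ 1 := fun e => hc1 (Subtype.ext e)
  obtain ⟨n, hn'⟩ := exists_pow_orderOf_two hT c.2 hc1'
  refine ⟨_, pow_mem (mem_subgroupOf.1 hcV) n, hn', fun x hx => ?_⟩
  exact ((show Commute x (c : G) from congrArg Subtype.val (mem_center_iff.1 hcZ ⟨x, hx⟩)).pow_right n).eq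

namespace MN

variable (h : MN G)
include h

/-- An element of odd order centralising an inverted element of prime order lies in its subgroup. -/
theorem odd_cent {t b : G} {p : ℕ} (ht : orderOf t = 2) (hp : p.Prime) (hp2 : p ≠ 2) (hb : orderOf b = p)
    (hinv : t * b * t⁻¹ = b⁻¹) {y : G} (hy : Odd (orderOf y)) (hyb : Commute y b) : y ∈ zpowers b := by
  have ht2 := sq_eq_one_of_two ht
  have hb1 : zpowers b ≠ ⊥ := zpowers_ne_bot' (ne_one_of_orderOf hp.ne_one hb)
  set H := zpowers b ⊔ zpowers t with hH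
  have hH1 : H ≠ ⊥ := ne_bot_of_le_ne_bot hb1 le_sup_left
  have hH2 : TwoPr H := twoPr_of_dvd hp Nat.prime_two (a := 1) (b := 1)
    (by rw [pow_one, pow_one]; exact hb ▸ card_dihedral_dvd ht hinv)
  have hbp : Nat.Coprime p 2 := (Nat.coprime_primes hp Nat.prime_two).2 hp2
  have hle : normalizer (H : Set G) ≤ normalizer (zpowers b : Set G) := by
    intro g hg
    refine Transfer.NormCyc.mem_normalizer_zpowers ?_
    rcases mem_dihedral ht2 hinv ((mem_normalizer_iff.1 hg b).1 (mem_sup_left (mem_zpowers b))) with e | ⟨i, e⟩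
    · exact e
    · have h1 : orderOf (g * b * g⁻¹) = p := by
        rw [← hb]; exact orderOf_injective (MulAut.conj g).toMonoidHom (MulAut.conj g).injective b
      have h2 := orderOf_dvd_of_pow_eq_one (show (g * b * g⁻¹) ^ 2 = 1 by rw [sq, e]; exact sq_flip ht2 hinv i)
      rw [h1] at h2
      exact absurd ((Nat.prime_dvd_prime_iff_eq hp Nat.prime_two).1 h2) hp2
  have hN := h.norm_eq hH1 hH2 hb1 (twoPr_pGroup hp (isPGroup_zpowers (k := 1) (by rw [hb, pow_one]))) hle
  have hyH : y ∈ normalizer (H : Set G) := by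
    rw [hN]
    exact Transfer.NormCyc.mem_normalizer_zpowers (by
      rw [hyb.eq, mul_inv_cancel_right]; exact mem_zpowers b)
  obtain ⟨i, hi⟩ : ∃ i : ℤ, y * t * y⁻¹ = b ^ i * t := by
    rcases mem_dihedral ht2 hinv ((mem_normalizer_iff.1 hyH t).1 (mem_sup_right (mem_zpowers t))) with e | e
    · have h1 : orderOf (y * t * y⁻¹) = 2 := by
        rw [← ht]; exact orderOf_injective (MulAut.conj y).toMonoidHom (MulAut.conj y).injective t
      have h2 := orderOf_dvd_of_mem_zpowers e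
      rw [h1, hb] at h2
      exact absurd ((Nat.prime_dvd_prime_iff_eq Nat.prime_two hp).1 h2).symm hp2
    · exact e
  obtain ⟨j, hj⟩ : ∃ j : ℤ, b ^ (j + j) = b ^ (-i) := by
    obtain ⟨m, hm⟩ := exists_pow_eq_self_of_coprime (x := b) (n := 2) (by rw [hb]; exact hbp.symm)
    refine ⟨(m : ℤ) * -i, ?_⟩
    rw [← two_mul, ← mul_assoc, zpow_mul, show (2 : ℤ) * (m : ℤ) = ((2 * m : ℕ) : ℤ) by push_cast; ring,
      zpow_natCast, pow_mul, hm]
  set z := y * b ^ j with hz
  have hzt : Commute z t := by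
    refine mul_inv_eq_iff_eq_mul.1 ?_
    calc z * t * z⁻¹ = y * (b ^ j * (t * b ^ (-j) * t⁻¹)) * t * y⁻¹ := by rw [hz]; group
      _ = y * b ^ (-i) * t * y⁻¹ := by
        rw [conj_zpow_of_inv hinv, ← zpow_neg, neg_neg, ← zpow_add, hj]
      _ = b ^ (-i) * (y * t * y⁻¹) := by rw [(hyb.zpow_right (-i)).eq]; group
      _ = t := by rw [hi, ← mul_assoc, ← zpow_add, neg_add_cancel, zpow_zero, one_mul]
  have hzo : Odd (orderOf z) := by
    refine Odd.of_dvd_nat ?_ ((hyb.zpow_right j).orderOf_mul_dvd_mul_orderOf)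
    exact hy.mul (Odd.of_dvd_nat (hp.odd_of_ne_two hp2) (hb ▸ orderOf_dvd_of_mem_zpowers
      (zpow_mem (mem_zpowers b) j)))
  suffices hz1 : z = 1 by
    have : y = b ^ (-j) := by rw [zpow_neg]; exact eq_inv_of_mul_eq_one_left hz1
    rw [this]; exact zpow_mem (mem_zpowers b) _
  rcases cit_or_mixed ht with hc | ⟨c, r, m⟩
  · exact eq_one_of_odd hc (mem_centralizer_singleton_iff.2 hzt) hzo
  · by_contra hz1
    have hzc := h.odd_mem m.ht m.hp m.hp2 m.hb m.comm hzo hzt
    have hzb : Commute b z := hyb.symm.mul_right ((Commute.refl b).zpow_right j)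
    have hbc : Commute b c := commute_of_mem_zpowers_prime m.hp m.hb hzc hz1 hzb
    have hbN : b ∈ normalizer (zpowers c : Set G) := Transfer.NormCyc.mem_normalizer_zpowers (by
      rw [hbc.eq, mul_inv_cancel_right]; exact mem_zpowers c)
    rw [h.norm_zpowers m, mem_centralizer_singleton_iff] at hbN
    rw [← hbN, mul_inv_cancel_right] at hinv
    have h2 := orderOf_dvd_of_pow_eq_one (show b ^ 2 = 1 by
      rw [sq]; nth_rewrite 2 [hinv]; exact mul_inv_cancel b)
    rw [hb] at h2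
    exact hp2 ((Nat.prime_dvd_prime_iff_eq hp Nat.prime_two).1 h2)

/-- A four group normaliser with an element of order three, against a CIT involution. -/
theorem no_sylow_norm (T : Sylow 2 G) {V : Subgroup G} (hV : V ≠ ⊥) (hVp : IsPGroup 2 V)
    (hTV : (T : Subgroup G) ≤ normalizer (V : Set G)) {z : G} (hz : orderOf z = 2)
    (hTz : ∀ x ∈ (T : Subgroup G), x * z = z * x) (hcit : IsPGroup 2 (centralizer ({z} : Set G)))
    {d : G} (hd : d ∈ normalizer (V : Set G)) (hd3 : orderOf d = 3) : False := by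
  haveI := Fact.mk Nat.prime_two
  have hCT : centralizer ({z} : Set G) = (T : Subgroup G) :=
    T.3 hcit fun x hx => mem_centralizer_singleton_iff.2 (hTz x hx)
  have hco := h.coatom_centralizer hz
  rw [hCT] at hco
  have hN : normalizer (V : Set G) = (T : Subgroup G) := by
    refine ((hco.le_iff).1 hTV).resolve_left (h.normalizer_ne_top hV ?_)
    haveI := hVp.isNilpotent
    infer_instance
  rw [hN] at hd
  exact ne_one_of_orderOf (by norm_num) hd3 (eq_one_of_odd T.isPGroup' hd (by rw [hd3]; decide))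

/-- The power of an element inverted along with one of order four, when `C(a²)` is a 2-group. -/
theorem eight_of_cit {a w c : G} (ha : orderOf a = 4) (hw : orderOf w = 2) (hwa : w * a * w⁻¹ = a⁻¹)
    (hcit : IsPGroup 2 (centralizer ({a * a} : Set G))) (hca : Commute c a) (hwc : w * c * w⁻¹ = c⁻¹) :
    c ^ 8 = 1 := by
  haveI := Fact.mk Nat.prime_two
  have hw2 := sq_eq_one_of_two hw
  set H := zpowers a ⊔ zpowers w with hH
  have ha1 : a ≠ 1 := ne_one_of_orderOf (by norm_num) ha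
  have haa : a * a ≠ 1 := fun e => by
    have := orderOf_dvd_of_pow_eq_one ((sq a).trans e)
    rw [ha] at this; norm_num at this
  have haa2 : orderOf (a * a) = 2 := by
    rw [← sq, orderOf_pow' _ (by norm_num), ha]; rfl
  have ha4 : a ^ 4 = 1 := ha ▸ pow_orderOf_eq_one a
  have hHp : IsPGroup 2 H := by
    obtain ⟨k, -, hk⟩ := (Nat.dvd_prime_pow Nat.prime_two).1 (show Nat.card H ∣ 2 ^ 3 by
      have := card_dihedral_dvd hw hwa; rwa [ha] at this)
    exact IsPGroup.of_card hk
  have hH1 : H ≠ ⊥ := ne_bot_of_le_ne_bot (zpowers_ne_bot' ha1) le_sup_left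
  have hle : normalizer (H : Set G) ≤ centralizer ({a * a} : Set G) := by
    intro g hg
    refine mem_centralizer_singleton_iff.2 (mul_inv_eq_iff_eq_mul.1 ?_)
    have h1 : g * (a * a) * g⁻¹ = (g * a * g⁻¹) * (g * a * g⁻¹) := by group
    rcases mem_dihedral hw2 hwa ((mem_normalizer_iff.1 hg a).1 (mem_sup_left (mem_zpowers a))) with e | ⟨i, e⟩
    · obtain ⟨i, hi⟩ := mem_zpowers_iff.1 e
      rw [h1, ← hi]
      rcases Int.even_or_odd' i with ⟨k, rfl | rfl⟩
      · exfalso
        refine haa (conj_eq_one_iff.1 (h1.trans ?_))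
        rw [← hi, ← zpow_add, show 2 * k + 2 * k = ((4 : ℕ) : ℤ) * k by push_cast; ring, zpow_mul,
          zpow_natCast, ha4, one_zpow]
      · rw [← zpow_add, show 2 * k + 1 + (2 * k + 1) = ((4 : ℕ) : ℤ) * k + 2 by push_cast; ring, zpow_add,
          zpow_mul, zpow_natCast, ha4, one_zpow, one_mul, zpow_two]
    · exact absurd (conj_eq_one_iff.1 (h1.trans (e ▸ sq_flip hw2 hwa i))) haa
  have hN : normalizer (H : Set G) = centralizer ({a * a} : Set G) := by
    rcases ((h.coatom' hH1 (twoPr_pGroup Nat.prime_two hHp)).le_iff).1 hle with e | e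
    · exact absurd e (h.coatom_centralizer haa2).1
    · exact e.symm
  have hcN : c ∈ normalizer (H : Set G) := hN ▸ mem_centralizer_singleton_iff.2 (hca.mul_right hca).eq
  have hcw : c * w * c⁻¹ = c * c * w := by
    calc c * w * c⁻¹ = c * (w * c * w⁻¹)⁻¹ * w := by group
      _ = c * c * w := by rw [hwc, inv_inv]
  have hcc : c * c ∈ H := by
    have h1 := mul_mem ((mem_normalizer_iff.1 hcN w).1 (mem_sup_right (mem_zpowers w)))
      (mem_sup_right (mem_zpowers w) : w ∈ H)
    rwa [hcw, mul_assoc, hw2, mul_one] at h1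
  rcases mem_dihedral hw2 hwa hcc with e | ⟨i, e⟩
  · obtain ⟨i, hi⟩ := mem_zpowers_iff.1 e
    rw [show c ^ 8 = (c * c) ^ 4 by rw [← sq, ← pow_mul], ← hi, ← zpow_natCast, ← zpow_mul,
      mul_comm, zpow_mul, zpow_natCast, ha4, one_zpow]
  · exfalso
    have hwc' : Commute w a := by
      have h1 : w = a ^ (-i) * (c * c) := by rw [e, ← mul_assoc, ← zpow_add, neg_add_cancel, zpow_zero, one_mul]
      rw [h1]
      exact ((Commute.refl a).zpow_left _).mul_left (hca.mul_left hca)
    rw [hwc'.eq, mul_inv_cancel_right] at hwa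
    exact haa (by nth_rewrite 2 [hwa]; exact mul_inv_cancel a)

end MN

end Cfsg.Agent.Invol.MaxNorm
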