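import Cfsg.Agent.Lib.Invol.MaxNorm.Mixed
import Cfsg.Agent.S0071
import Cfsg.Agent.S0076

/-!
# Maximal normalisers: the four group in a mixed centralizer (for S4233)
-/

set_option autoImplicit false
set_option linter.style.haveILetI false

namespace Cfsg.Agent.Invol.MaxNorm

open Subgroup
open scoped Pointwise

universe u

variable {G : Type u} [Group G] [Finite G]

/-- An involution centralizing an element `b` of odd prime order. -/
structure Mixed (t b : G) (p : ℕ) : Prop where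
  ht : orderOf t = 2
  hp : p.Prime
  hp2 : p ≠ 2
  hb : orderOf b = p
  comm : Commute b t

theorem cit_or_mixed {t : G} (ht : orderOf t = 2) :
    IsPGroup 2 (centralizer ({t} : Set G)) ∨ ∃ (b : G) (p : ℕ), Mixed t b p := by
  by_cases hc : ∃ q, q.Prime ∧ q ≠ 2 ∧ q ∣ Nat.card (centralizer ({t} : Set G))
  · obtain ⟨q, hq, hq2, hqd⟩ := hc
    haveI := Fact.mk hq
    obtain ⟨x, hx⟩ := exists_prime_orderOf_dvd_card' q hqd
    exact Or.inr ⟨x, q, ht, hq, hq2, by rw [Subgroup.orderOf_coe, hx], mem_centralizer_singleton_iff.1 x.2⟩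
  · left
    push Not at hc
    exact IsPGroup.of_card (Nat.eq_prime_pow_of_unique_prime_dvd Nat.card_pos.ne'
      fun {q} hq hd => by_contra fun hq2 => hc q hq hq2 hd)

theorem Mixed.not_cit {t b : G} {p : ℕ} (m : Mixed t b p) : ¬ IsPGroup 2 (centralizer ({t} : Set G)) := by
  intro hP
  obtain ⟨k, hk⟩ := hP ⟨b, mem_centralizer_singleton_iff.2 m.comm⟩
  have h2 : b ^ 2 ^ k = 1 := congrArg Subtype.val hk
  refine ne_one_of_orderOf m.hp.ne_one m.hb (orderOf_eq_one_iff.1 (Nat.eq_one_of_dvd_coprimes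
    (Nat.Coprime.pow_left k ((Nat.coprime_primes Nat.prime_two m.hp).2 m.hp2.symm))
    (orderOf_dvd_of_pow_eq_one h2) (dvd_of_eq m.hb)))

theorem Mixed.conj {t b : G} {p : ℕ} (m : Mixed t b p) (g : G) : Mixed (g * t * g⁻¹) (g * b * g⁻¹) p where
  ht := by rw [← m.ht]; exact orderOf_injective (MulAut.conj g).toMonoidHom (MulAut.conj g).injective t
  hp := m.hp
  hp2 := m.hp2
  hb := by rw [← m.hb]; exact orderOf_injective (MulAut.conj g).toMonoidHom (MulAut.conj g).injective b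
  comm := by
    show _ = _
    rw [show g * b * g⁻¹ * (g * t * g⁻¹) = g * (b * t) * g⁻¹ by group, m.comm.eq]
    group

omit [Finite G] in
theorem exists_pow_orderOf_two {T : Subgroup G} (hT : IsPGroup 2 T) {x : G} (hx : x ∈ T) (hx1 : x ≠ 1) :
    ∃ n : ℕ, orderOf (x ^ n) = 2 := by
  haveI := Fact.mk Nat.prime_two
  obtain ⟨k, hk⟩ := (IsPGroup.iff_orderOf.1 hT) ⟨x, hx⟩
  rw [Subgroup.orderOf_mk] at hk
  refine ⟨2 ^ (k - 1), ?_⟩
  have hk0 : k ≠ 0 := by rintro rfl; exact hx1 (orderOf_eq_one_iff.1 (by rw [hk, pow_zero]))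
  rw [orderOf_pow_of_dvd (pow_ne_zero _ two_ne_zero) (hk ▸ pow_dvd_pow 2 (Nat.sub_le k 1)), hk,
    Nat.pow_div (Nat.sub_le k 1) two_pos, show k - (k - 1) = 1 by omega, pow_one]

/-- Odd order elements of a 2-subgroup are trivial. -/
theorem eq_one_of_odd {T : Subgroup G} (hT : IsPGroup 2 T) {x : G} (hx : x ∈ T) (ho : Odd (orderOf x)) :
    x = 1 := by
  haveI := Fact.mk Nat.prime_two
  obtain ⟨k, hk⟩ := (IsPGroup.iff_orderOf.1 hT) ⟨x, hx⟩
  rw [Subgroup.orderOf_mk] at hk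
  exact orderOf_eq_one_iff.1 (Nat.eq_one_of_dvd_coprimes ((Nat.coprime_two_left.2 ho).pow_left k)
    (dvd_of_eq hk) dvd_rfl)

namespace MN

variable (h : MN G)
include h

theorem norm_zpowers {t b : G} {p : ℕ} (m : Mixed t b p) :
    normalizer (zpowers b : Set G) = centralizer ({t} : Set G) :=
  h.norm_b m.ht m.hp m.hp2 m.hb m.comm

theorem eq_t' {t b : G} {p : ℕ} (m : Mixed t b p) {x : G} (hx : x * x = 1) (hxt : Commute x t)
    (hxb : Commute x b) : x = 1 ∨ x = t := by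
  by_cases h1 : x = 1
  · exact Or.inl h1
  · exact Or.inr (h.eq_t m.ht m.hp m.hp2 m.hb m.comm (orderOf_eq_prime (by rw [sq, hx]) h1) hxt hxb)

/-- The involutions of a maximal 2-subgroup of a mixed centralizer. -/
theorem invol_mem {t b : G} {p : ℕ} (m : Mixed t b p) {S : Subgroup G}
    (hS : MaxTwo (centralizer ({t} : Set G)) S) {v : G} (hv : v ∈ S) (hv2 : orderOf v = 2) (hvt : v ≠ t)
    (hvc : ∀ s ∈ S, s * v = v * s) {x : G} (hx : x ∈ S) (hx2 : x * x = 1) :
    x = 1 ∨ x = t ∨ x = v ∨ x = t * v := by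
  have hxt : Commute x t := mem_centralizer_singleton_iff.1 (hS.le hx)
  have hvt' : Commute v t := mem_centralizer_singleton_iff.1 (hS.le hv)
  by_cases hx1 : x = 1
  · exact Or.inl hx1
  by_cases hxt1 : x = t
  · exact Or.inr (Or.inl hxt1)
  have e1 := h.inverts m.ht m.hp m.hp2 m.hb m.comm (orderOf_eq_prime (by rw [sq, hx2]) hx1) hxt hxt1
  have e2 := h.inverts m.ht m.hp m.hp2 m.hb m.comm hv2 hvt' hvt
  have hxv : Commute (x * v) b := by
    refine mul_inv_eq_iff_eq_mul.1 ?_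
    calc x * v * b * (x * v)⁻¹ = x * (v * b * v⁻¹) * x⁻¹ := by group
      _ = (x * b * x⁻¹)⁻¹ := by rw [e2]; group
      _ = b := by rw [e1, inv_inv]
  have hsq : x * v * (x * v) = 1 := by
    rw [show x * v * (x * v) = x * (v * x) * v by group, ← hvc x hx, ← mul_assoc x x v, hx2, one_mul,
      sq_eq_one_of_two hv2]
  rcases h.eq_t' m hsq (hxt.mul_left hvt') hxv with e | e
  · exact Or.inr (Or.inr (Or.inl (by
      rw [eq_inv_of_mul_eq_one_left e, inv_eq_self_of_two hv2])))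
  · exact Or.inr (Or.inr (Or.inr (by rw [← e, mul_assoc, sq_eq_one_of_two hv2, mul_one])))

/-- The centralizer of the four group. -/
theorem cent_four {t b : G} {p : ℕ} (m : Mixed t b p) {S : Subgroup G}
    (hS : MaxTwo (centralizer ({t} : Set G)) S) {v : G} (hv : v ∈ S) (hv2 : orderOf v = 2) (hvt : v ≠ t)
    (hvc : ∀ s ∈ S, s * v = v * s) {y : G} (hyt : Commute y t) (hyv : Commute y v) : y ∈ S := by
  set C := centralizer ({t} : Set G) ⊓ centralizer ({v} : Set G) with hC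
  have hvt' : Commute v t := mem_centralizer_singleton_iff.1 (hS.le hv)
  have hP : IsPGroup 2 C := by
    rw [IsPGroup.iff_orderOf]
    rintro ⟨c, hc'⟩
    rw [Subgroup.orderOf_mk]
    obtain ⟨hct, hcv⟩ := mem_inf.1 hc' 
    obtain ⟨k, n, hn, hkn⟩ := Nat.exists_eq_two_pow_mul_odd (orderOf_pos c).ne'
    refine ⟨k, ?_⟩
    have hct' : Commute c t := mem_centralizer_singleton_iff.1 hct
    have hcv' : Commute c v := mem_centralizer_singleton_iff.1 hcv
    have ho : orderOf (c ^ 2 ^ k) = n := by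
      rw [orderOf_pow_of_dvd (pow_ne_zero _ two_ne_zero) ⟨n, hkn⟩, hkn,
        Nat.mul_div_cancel_left _ (pow_pos two_pos k)]
    have hmem := h.odd_mem m.ht m.hp m.hp2 m.hb m.comm (by rw [ho]; exact hn) (hct'.pow_left _)
    have h1 : c ^ 2 ^ k = 1 := by_contra fun hne => by
      have hvb := commute_of_mem_zpowers_prime m.hp m.hb hmem hne (hcv'.pow_left _).symm
      rcases h.eq_t' m (sq_eq_one_of_two hv2) hvt' hvb with e | e
      · exact ne_one_of_orderOf (by norm_num) hv2 e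
      · exact hvt e
    rw [hkn, show n = 1 by rw [← ho, h1, orderOf_one], mul_one]
  have hSC : S ≤ C := fun s hs => ⟨hS.le hs, mem_centralizer_singleton_iff.2 (hvc s hs)⟩
  have := hS.max C inf_le_left hP hSC
  exact this ▸ ⟨mem_centralizer_singleton_iff.2 hyt, mem_centralizer_singleton_iff.2 hyv⟩

/-- A 2-subgroup centralizing two mixed involutions is commutative. -/
theorem comm_of_two_mixed {t b v c : G} {p q : ℕ} (m : Mixed t b p) (n : Mixed v c q) (hne : t ≠ v)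
    {S : Subgroup G} (hS : IsPGroup 2 S) (hSt : ∀ s ∈ S, s * t = t * s) (hSv : ∀ s ∈ S, s * v = v * s)
    {s s' : G} (hs : s ∈ S) (hs' : s' ∈ S) : s * s' = s' * s := by
  have key : ∀ {t b : G} {p : ℕ}, Mixed t b p → (∀ s ∈ S, s * t = t * s) →
      Commute (s * s' * s⁻¹ * s'⁻¹) b := by
    intro t b p m hSt
    have hact : ∀ s ∈ S, ∃ i : ℤ, s * b * s⁻¹ = b ^ i := fun s hs => by
      obtain ⟨i, hi⟩ := mem_zpowers_iff.1 ((mem_normalizer_iff.1 (h.norm_zpowers m ▸
        mem_centralizer_singleton_iff.2 (hSt s hs)) b).1 (mem_zpowers b))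
      exact ⟨i, hi.symm⟩
    obtain ⟨i, hi⟩ := hact s hs
    obtain ⟨j, hj⟩ := hact s' hs'
    obtain ⟨i', hi'⟩ := hact s⁻¹ (inv_mem hs)
    obtain ⟨j', hj'⟩ := hact s'⁻¹ (inv_mem hs')
    have e : ∀ (x : G) (k l : ℤ), x * b * x⁻¹ = b ^ k → x * b ^ l * x⁻¹ = b ^ (k * l) := fun x k l hx => by
      rw [← conj_zpow, hx, zpow_mul]
    refine mul_inv_eq_iff_eq_mul.1 ?_
    calc s * s' * s⁻¹ * s'⁻¹ * b * (s * s' * s⁻¹ * s'⁻¹)⁻¹
        = s * (s' * (s⁻¹ * (s'⁻¹ * b * s'⁻¹⁻¹) * s⁻¹⁻¹) * s'⁻¹) * s⁻¹ := by group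
      _ = b ^ (i * (j * (i' * j'))) := by rw [hj', e _ _ _ hi', e _ _ _ hj, e _ _ _ hi]
      _ = b ^ (i * i' * (j * j')) := by ring_nf
      _ = b := by
        have h1 : b ^ (i * i') = b := by
          rw [← e _ i i' hi, ← hi']; group
        have h2 : b ^ (j * j') = b := by
          rw [← e _ j j' hj, ← hj']; group
        rw [zpow_mul, h1, h2]
  by_contra hc
  have hx : s * s' * s⁻¹ * s'⁻¹ ∈ S := mul_mem (mul_mem (mul_mem hs hs') (inv_mem hs)) (inv_mem hs')
  obtain ⟨k, hk⟩ := exists_pow_orderOf_two hS hx (fun e => hc (by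
    exact mul_inv_eq_iff_eq_mul.1 (mul_inv_eq_one.1 e)))
  have hxm : ∀ {t : G}, (∀ s ∈ S, s * t = t * s) → Commute ((s * s' * s⁻¹ * s'⁻¹) ^ k) t := fun hSt =>
    hSt _ (pow_mem hx k)
  have h1 := h.eq_t m.ht m.hp m.hp2 m.hb m.comm hk (hxm hSt) ((key m hSt).pow_left k)
  have h2 := h.eq_t n.ht n.hp n.hp2 n.hb n.comm hk (hxm hSv) ((key n hSv).pow_left k)
  exact hne (h1.symm.trans h2)

omit h in
/-- All 2-subgroups of `M` are at most as large as a maximal one. -/
theorem card_le_maxTwo {M S : Subgroup G} (hS : MaxTwo M S) {A : Subgroup G} (hA : IsPGroup 2 A)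
    (hAM : A ≤ M) : ∃ m ∈ M, ∀ a ∈ A, m * a * m⁻¹ ∈ S := by
  haveI : Fact (Nat.Prime 2) := ⟨Nat.prime_two⟩
  obtain ⟨P, hP⟩ := (hA.comap_of_injective M.subtype M.subtype_injective).exists_le_sylow
  obtain ⟨Q, hQ⟩ := (hS.isP.comap_of_injective M.subtype M.subtype_injective).exists_le_sylow
  obtain ⟨m, hm⟩ := MulAction.exists_smul_eq M P Q
  have hQS : (Q : Subgroup M).map M.subtype = S := hS.max _ (map_subtype_le _) (Q.isPGroup'.map _)
    fun x hx => ⟨⟨x, hS.le hx⟩, hQ hx, rfl⟩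
  refine ⟨m, m.2, fun a ha => ?_⟩
  have h1 : m * ⟨a, hAM ha⟩ * m⁻¹ ∈ (Q : Subgroup M) := hm ▸ ⟨⟨a, hAM ha⟩, hP ha, rfl⟩
  exact hQS ▸ ⟨_, h1, rfl⟩

/-- An odd element normalising `Q` and centralizing a central involution of `Q` centralizes `Q`. -/
theorem centralize_of_fix {Q : Subgroup G} (hQ : IsPGroup 2 Q) {d x : G} (hd : Odd (orderOf d))
    (hdQ : d ∈ normalizer (Q : Set G)) (hx : orderOf x = 2) (hxQ : ∀ q ∈ Q, q * x = x * q) (hdx : Commute d x) :
    ∀ q ∈ Q, q * d = d * q := by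
  rcases cit_or_mixed hx with hc | ⟨b, p, m⟩
  · intro q _
    rw [eq_one_of_odd hc (mem_centralizer_singleton_iff.2 hdx) hd, mul_one, one_mul]
  · have hdb := h.odd_mem m.ht m.hp m.hp2 m.hb m.comm hd hdx
    intro q hq
    by_cases hd1 : d = 1
    · rw [hd1, mul_one, one_mul]
    have hbd : b ∈ zpowers d := by
      haveI := Fact.mk m.hp
      have h1 : zpowers d = zpowers b := eq_of_le_of_card_ge (zpowers_le.2 hdb) (by
        rw [Nat.card_zpowers, Nat.card_zpowers, m.hb]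
        rcases (Nat.dvd_prime m.hp).1 (m.hb ▸ orderOf_dvd_of_mem_zpowers hdb) with e | e
        · exact absurd (orderOf_eq_one_iff.1 e) hd1
        · rw [e])
      exact h1 ▸ mem_zpowers b
    have hqb := commute_b_of_normal hQ m.hp m.hp2 m.hb (zpowers_le.2 hdQ hbd) hq
      ((mem_normalizer_iff.1 (h.norm_zpowers m ▸ mem_centralizer_singleton_iff.2 (hxQ q hq)) b).1
        (mem_zpowers b))
    obtain ⟨i, hi⟩ := mem_zpowers_iff.1 hdb
    rw [← hi]
    exact (hqb.zpow_right i).eq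

/-- A 2-local automorphism of odd order. -/
theorem exists_local (T : Sylow 2 G) : ∃ (Q : Subgroup G) (d : G), Q ≤ (T : Subgroup G) ∧
    d ∈ normalizer (Q : Set G) ∧ Odd (orderOf d) ∧ ¬ ∀ q ∈ Q, q * d = d * q := by
  haveI : Fact (Nat.Prime 2) := ⟨Nat.prime_two⟩
  by_contra hno
  push Not at hno
  obtain ⟨N, hN, hc⟩ := (Cfsg.Agent.S0071.result T).2 fun Q hQ g hg hg2 => mem_centralizer_iff.2
    fun q hq => hno Q g hQ hg (Nat.coprime_two_right.1 hg2) q hq
  have hodd : Odd (Nat.card N) := by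
    have hidx := hc.index_eq_card
    refine Nat.not_even_iff_odd.1 fun he => T.not_dvd_index ?_
    rw [hidx]; exact even_iff_two_dvd.1 he
  have hN1 : N = ⊥ := h.rad N hN (Cfsg.Agent.S0205.result hodd)
  refine h.ns ?_
  haveI := T.isPGroup'.isNilpotent
  have htop : (T : Subgroup G) = ⊤ := by
    have := hc.sup_eq_top
    rwa [hN1, bot_sup_eq] at this
  exact Group.isSolvable_of_surjective (f := ((MulEquiv.subgroupCongr htop).trans topEquiv).toMonoidHom)
    (MulEquiv.surjective _)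

end MN

end Cfsg.Agent.Invol.MaxNorm
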