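import Cfsg.Agent.Lib.Invol.MaxNorm.Socle
import Cfsg.Agent.Lib.Invol.MaxNorm.Inverter
import Cfsg.Agent.Lib.Classical.DicksonCentral
import Cfsg.Agent.Lib.Classical.DicksonKleinCount
import Cfsg.Agent.Lib.Classical.SLGroup
import Cfsg.Agent.S0813

/-!
# Maximal normalisers: `PSL(2,q)` as socle (for S4233)
-/

set_option autoImplicit false
set_option linter.style.haveILetI false

namespace Cfsg.Agent.Invol.MaxNorm

open Subgroup
open scoped Pointwise

universe u

variable {G : Type u} [Group G] [Finite G] {F : Type} [Field F] [Fintype F]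

local notation "PS" => Matrix.ProjectiveSpecialLinearGroup (Fin 2) F

/-- An embedding of `PSL(2,F)` as a self-centralising normal subgroup. -/
structure SocPSL (ψ : PS →* G) : Prop where
  inj : Function.Injective ψ
  normal : ψ.range.Normal
  cent : centralizer (ψ.range : Set G) = ⊥

omit [Finite G] [Fintype F] in
theorem SocPSL.of_iso {M : Subgroup G} (hM : IsSocle M) (e : M ≃* PS) :
    SocPSL (M.subtype.comp e.symm.toMonoidHom) := by
  have hr : (M.subtype.comp e.symm.toMonoidHom).range = M := by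
    rw [MonoidHom.range_comp, MonoidHom.range_eq_top.2 (by exact e.symm.surjective), ← MonoidHom.range_eq_map,
      range_subtype]
  exact ⟨M.subtype_injective.comp e.symm.injective, hr.symm ▸ hM.1, hr.symm ▸ hM.2.2.2⟩

namespace SocPSL

variable {ψ : Matrix.ProjectiveSpecialLinearGroup (Fin 2) F →* G} (s : SocPSL ψ)
include s

theorem comap_centralizer (y : PS) :
    (centralizer ({ψ y} : Set G)).comap ψ = centralizer ({y} : Set PS) := by
  ext x
  rw [mem_comap, mem_centralizer_singleton_iff, mem_centralizer_singleton_iff, ← map_mul, ← map_mul]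
  exact s.inj.eq_iff

theorem comap_normalizer (V : Subgroup PS) :
    (normalizer ((V.map ψ : Subgroup G) : Set G)).comap ψ = normalizer (V : Set PS) := by
  refine le_antisymm (fun x hx => mem_normalizer_of_map_mem fun a ha => ?_) fun x hx => ?_
  · obtain ⟨b, hb, e⟩ := (mem_normalizer_iff.1 (mem_comap.1 hx) (ψ a)).1 ⟨a, ha, rfl⟩
    rw [← map_inv, ← map_mul, ← map_mul] at e
    exact s.inj e ▸ hb
  · refine mem_comap.2 (mem_normalizer_of_map_mem ?_)
    rintro _ ⟨a, ha, rfl⟩
    exact ⟨x * a * x⁻¹, (mem_normalizer_iff.1 hx a).1 ha, by rw [map_mul, map_mul, map_inv]⟩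

theorem card_eq (K : Subgroup G) :
    Nat.card K = ψ.range.relIndex K * Nat.card (K.comap ψ) := by
  have h1 : Nat.card (K.comap ψ) = Nat.card (ψ.range.subgroupOf K) := by
    rw [← card_map_of_injective s.inj, map_comap_eq, ← card_map_of_injective (f := K.subtype) K.subtype_injective
      (K := ψ.range.subgroupOf K), subgroupOf_map_subtype]
  rw [h1, mul_comm]
  exact (ψ.range.subgroupOf K).card_mul_index.symm

theorem relIndex_dvd (K : Subgroup G) : ψ.range.relIndex K ∣ ψ.range.index := by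
  haveI := s.normal
  exact relIndex_dvd_index_of_normal _ _

theorem card_group : Nat.card G = ψ.range.index * Nat.card PS := by
  rw [← ψ.range.card_mul_index, ← Nat.card_congr (MonoidHom.ofInjective s.inj).toEquiv, mul_comm]

theorem mixed {x b : PS} {r : ℕ} (hx : orderOf x = 2) (hr : r.Prime) (hr2 : r ≠ 2) (hb : orderOf b = r)
    (hc : Commute b x) : Mixed (ψ x) (ψ b) r :=
  ⟨by rw [orderOf_injective ψ s.inj, hx], hr, hr2, by rw [orderOf_injective ψ s.inj, hb], hc.map ψ⟩

end SocPSL

variable (h : MN G) {ψ : Matrix.ProjectiveSpecialLinearGroup (Fin 2) F →* G} (s : SocPSL ψ) (hodd : Odd (Fintype.card F)) (h3 : 3 < Fintype.card F)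

include h s hodd h3

namespace MN

/-- The field is a prime field. -/
theorem field_prime : (Fintype.card F).Prime := by
  classical
  obtain ⟨p, hc⟩ := CharP.exists F
  haveI : Fact p.Prime := ⟨CharP.char_is_prime F p⟩
  obtain ⟨n, hp, hn⟩ := FiniteField.card F p
  have hp2 : p ≠ 2 := Dickson.char_ne_two_of_odd_card hodd p
  have hcard : Nat.card PS * 2 = Fintype.card F * ((Fintype.card F - 1) * (Fintype.card F + 1)) := by
    have := Dickson.card_psl (F := F)
    rcases Dickson.del_cases F with ⟨-, he⟩ | ⟨hd, -⟩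
    · exact absurd he (Nat.not_even_iff_odd.2 hodd)
    · rwa [hd] at this
  have hpd : p ∣ Nat.card PS := by
    refine ((Nat.coprime_primes hp Nat.prime_two).2 hp2).dvd_of_dvd_mul_right (hcard ▸ ?_)
    exact Dvd.dvd.mul_right (hn ▸ dvd_pow_self p n.pos.ne') _
  obtain ⟨u, hu⟩ := exists_prime_orderOf_dvd_card' (G := PS) p hpd
  have hu1 : u ≠ 1 := ne_one_of_orderOf hp.ne_one hu
  have hup : u ^ p = 1 := hu ▸ pow_orderOf_eq_one u
  set U := Dickson.tor u with hU
  have hUc : Nat.card U = Fintype.card F := Dickson.card_tor_uni p hu1 hup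
  have hUp : IsPGroup p U := (Dickson.pslData (F := F) p).isPGroup_T hp hu1 hup
  have hcu : centralizer ({u} : Set PS) = U := Dickson.centralizer_eq_tor p hu1 (Or.inl hup)
  set A := zpowers (ψ u) with hA
  have hA1 : A ≠ ⊥ := zpowers_ne_bot' fun e => hu1 (s.inj (e.trans ψ.map_one.symm))
  have hA2 : TwoPr A := twoPr_pGroup hp (isPGroup_zpowers (k := 1) (by
    rw [orderOf_injective ψ s.inj, hu, pow_one]))
  have hB1 : U.map ψ ≠ ⊥ := fun e => hu1 (by
    rw [map_eq_bot_iff_of_injective _ s.inj] at e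
    exact mem_bot.1 (e ▸ (Dickson.pslData (F := F) p).self u))
  have hle : normalizer (A : Set G) ≤ normalizer ((U.map ψ : Subgroup G) : Set G) := by
    intro g hg
    refine mem_normalizer_of_map_mem ?_
    rintro _ ⟨v, hv, rfl⟩
    obtain ⟨w, hw⟩ := s.normal.conj_mem (ψ v) ⟨v, rfl⟩ g
    refine ⟨w, ?_, hw⟩
    rw [SetLike.mem_coe, ← hcu, mem_centralizer_singleton_iff]
    refine s.inj ?_
    rw [map_mul, map_mul, hw]
    have hvu : Commute v u := mem_centralizer_singleton_iff.1 (hcu.symm ▸ hv : v ∈ centralizer ({u} : Set PS))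
    have hx : g⁻¹ * ψ u * g ∈ A := by
      have := (mem_normalizer_iff.1 (inv_mem hg) (ψ u)).1 (mem_zpowers _)
      rwa [inv_inv] at this
    obtain ⟨i, hi⟩ := mem_zpowers_iff.1 hx
    have hcm : Commute (ψ v) (g⁻¹ * ψ u * g) := hi ▸ (hvu.map ψ).zpow_right i
    calc g * ψ v * g⁻¹ * ψ u = g * (ψ v * (g⁻¹ * ψ u * g)) * g⁻¹ := by group
      _ = g * ((g⁻¹ * ψ u * g) * ψ v) * g⁻¹ := by rw [hcm.eq]
      _ = _ := by group
  have hN := h.norm_eq hA1 hA2 hB1 (twoPr_pGroup hp (hUp.map ψ)) hle
  set N := normalizer (U : Set PS) with hNdef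
  have hNle : N ≤ normalizer (zpowers u : Set PS) := fun b hb => by
    refine Transfer.NormCyc.mem_normalizer_zpowers ?_
    have h1 : ψ b ∈ normalizer (A : Set G) := by
      rw [hN]
      exact mem_comap.1 (s.comap_normalizer U ▸ hb)
    have h2 := (mem_normalizer_iff.1 h1 (ψ u)).1 (mem_zpowers _)
    rw [hA, ← MonoidHom.map_zpowers, ← map_inv, ← map_mul, ← map_mul] at h2
    obtain ⟨c, hc', e⟩ := h2
    exact s.inj e ▸ hc'
  let f : N →* MulAut (zpowers u) := (zpowers u).normalizerMonoidHom.comp (inclusion hNle)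
  have hk : Nat.card f.ker ≤ Nat.card U := by
    rw [← card_map_of_injective (K := f.ker) N.subtype_injective]
    refine card_le_of_le ?_
    rintro _ ⟨x, hx, rfl⟩
    have h1 : inclusion hNle x ∈ (zpowers u).normalizerMonoidHom.ker := hx
    rw [normalizerMonoidHom_ker, mem_subgroupOf] at h1
    rw [← hcu, mem_centralizer_singleton_iff]
    exact ((mem_centralizer_iff.1 h1) u (mem_zpowers u)).symm
  have hr : Nat.card f.range ≤ p - 1 := by
    refine (card_le_card_group _).trans ?_
    rw [IsCyclic.card_mulAut, Nat.card_zpowers, hu, Nat.totient_prime hp]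
  have hNc : Nat.card N ≤ Fintype.card F * (p - 1) := by
    rw [← f.ker.card_mul_index, index_ker, ← hUc]
    exact Nat.mul_le_mul hk hr
  have hB : Nat.card N * 2 = Fintype.card F * (Fintype.card F - 1) := by
    have := Dickson.card_borel p hu1 hup
    rcases Dickson.del_cases F with ⟨-, he⟩ | ⟨hd, -⟩
    · exact absurd he (Nat.not_even_iff_odd.2 hodd)
    · rwa [hd] at this
  have h2 : Fintype.card F - 1 ≤ (p - 1) * 2 :=
    Nat.le_of_mul_le_mul_left (by rw [← hB, ← mul_assoc]; exact Nat.mul_le_mul_right 2 hNc)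
      (by omega : 0 < Fintype.card F)
  have h3p : 3 ≤ p := by
    have := hp.two_le; omega
  have hn1 : (n : ℕ) = 1 := by
    by_contra hne
    have h4 : p ^ 2 ≤ p ^ (n : ℕ) := Nat.pow_le_pow_right hp.pos (by have := n.pos; omega)
    have h5 : p * 3 ≤ p * p := Nat.mul_le_mul_left p h3p
    rw [sq] at h4
    omega
  rw [hn, hn1, pow_one]
  exact hp

omit h in
theorem index_le_two (hpr : (Fintype.card F).Prime) : ψ.range.index = 1 ∨ ψ.range.index = 2 := by
  classical
  haveI := s.normal
  haveI := Fact.mk hpr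
  have hinj : Function.Injective (MulAut.conjNormal (H := ψ.range) : G →* MulAut ψ.range) := by
    refine (injective_iff_map_eq_one _).2 fun g hg => ?_
    have : g ∈ centralizer (ψ.range : Set G) := mem_centralizer_iff.2 fun x hx => by
      have h1 := congrArg Subtype.val (DFunLike.congr_fun hg ⟨x, hx⟩)
      rw [MulAut.conjNormal_apply] at h1
      exact (mul_inv_eq_iff_eq_mul.1 h1).symm
    rwa [s.cent, mem_bot] at this
  have hd : Nat.card G ∣ Nat.card (MulAut PS) :=
    (Subgroup.card_dvd_of_injective _ hinj).trans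
      (dvd_of_eq (Nat.card_congr (MulAut.congr (MonoidHom.ofInjective s.inj)).toEquiv).symm)
  rw [Cfsg.Agent.S0813.result (F := F) (Fintype.card F) 1 le_rfl (pow_one _).symm 2 le_rfl
    (fun _ => by rw [pow_one]; omega), if_pos rfl, one_mul, one_mul, Classical.natCard_PGL_eq_SL,
    ← Classical.natCard_PSL_mul 2 (by norm_num), Classical.natCard_units_field, s.card_group] at hd
  have hg : Nat.gcd 2 (Fintype.card F - 1) = 2 := Nat.gcd_eq_left (by
    obtain ⟨k, hk⟩ := hodd; omega)
  rw [hg] at hd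
  exact (Nat.dvd_prime Nat.prime_two).1 (Nat.dvd_of_mul_dvd_mul_right Nat.card_pos hd)

variable (p : ℕ) [hp : Fact p.Prime] [CharP F p]
include p

/-- Tori of odd order have prime order. -/
theorem torus_prime {a : PS} (ha : a ≠ 1) (hap : a ^ p ≠ 1) (ho : Odd (Nat.card (Dickson.tor a)))
    (h2 : 2 ≤ Nat.card (Dickson.tor a)) : (Nat.card (Dickson.tor a)).Prime := by
  set D := Dickson.pslData (F := F) p
  obtain ⟨g, hgN, hgT⟩ := Dickson.exists_flip p ha hap
  obtain ⟨hg2, hinv⟩ := D.semi_flip ha hap ((D.mem_normalizer_iff ha).1 hgN) hgT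
  have hg : orderOf (ψ g) = 2 := by
    rw [orderOf_injective ψ s.inj]
    exact orderOf_eq_prime (by rw [sq, hg2]) fun e => hgT (e ▸ one_mem _)
  obtain ⟨r, hr, hrd⟩ := Nat.exists_prime_and_dvd (show Nat.card (Dickson.tor a) ≠ 1 by omega)
  have hr2 : r ≠ 2 := fun e => Nat.not_even_iff_odd.2 ho (even_iff_two_dvd.2 (e ▸ hrd))
  obtain ⟨b, hbT, hb⟩ := Dickson.exists_orderOf_dvd p ha hap hrd
  have hbψ : orderOf (ψ b) = r := by rw [orderOf_injective ψ s.inj, hb]
  have hinvψ : ψ g * ψ b * (ψ g)⁻¹ = (ψ b)⁻¹ := by rw [← map_inv, ← map_mul, ← map_mul, hinv b hbT, map_inv]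
  have hle : Dickson.tor a ≤ zpowers b := fun y hy => by
    have hy' : Odd (orderOf (ψ y)) := by
      rw [orderOf_injective ψ s.inj]
      exact ho.of_dvd_nat (orderOf_dvd_natCard _ hy)
    have h1 := h.odd_cent hg hr hr2 hbψ hinvψ hy' ((D.comm ha hy hbT).map ψ)
    rw [← MonoidHom.map_zpowers] at h1
    obtain ⟨c, hc', e⟩ := h1
    exact s.inj e ▸ hc'
  have h1 := card_dvd_of_le hle
  rw [Nat.card_zpowers, hb] at h1
  rcases (Nat.dvd_prime hr).1 h1 with e | e
  · omega
  · rw [e]; exact hr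

/-- The odd part of the torus of an involution. -/
theorem involution_odd_part {x : PS} (hx : orderOf x = 2) {k o : ℕ} (ho : Odd o)
    (hm : Nat.card (Dickson.tor x) = 2 ^ k * o) : o = 1 ∨ o.Prime := by
  set D := Dickson.pslData (F := F) p
  obtain ⟨hx1, hxp, -⟩ := Dickson.involution_semi p hodd hx
  by_cases ho1 : o = 1
  · exact Or.inl ho1
  obtain ⟨r, hr, hrd⟩ := Nat.exists_prime_and_dvd ho1
  have hr2 : r ≠ 2 := fun e => Nat.not_even_iff_odd.2 ho (even_iff_two_dvd.2 (e ▸ hrd))
  obtain ⟨b, hbT, hb⟩ := Dickson.exists_orderOf_dvd p hx1 hxp (n := r) (hm ▸ hrd.mul_left _)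
  obtain ⟨y, hyT, hy⟩ := Dickson.exists_orderOf_dvd p hx1 hxp (n := o) (hm ▸ dvd_mul_left o _)
  have m := s.mixed hx hr hr2 hb (D.comm hx1 hbT (D.self x))
  have h1 := orderOf_dvd_of_mem_zpowers (h.odd_mem m.ht m.hp m.hp2 m.hb m.comm
    (x := ψ y) (by rw [orderOf_injective ψ s.inj, hy]; exact ho) ((D.comm hx1 hyT (D.self x)).map ψ))
  rw [orderOf_injective ψ s.inj, orderOf_injective ψ s.inj, hy, hb] at h1
  exact Or.inr (((Nat.dvd_prime hr).1 h1).resolve_left ho1 ▸ hr)

omit h h3 in
/-- Centralisers of involutions of the socle. -/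
theorem card_centralizer_dvd {x : PS} (hx : orderOf x = 2) :
    Nat.card (centralizer ({ψ x} : Set G)) ∣ ψ.range.index * (2 * Nat.card (Dickson.tor x)) := by
  obtain ⟨hx1, hxp, hx2⟩ := Dickson.involution_semi p hodd hx
  rw [s.card_eq, s.comap_centralizer, Dickson.centralizer_involution p hx1 hxp hx2,
    (Dickson.normalizer_tor p hx1 hxp).1]
  exact mul_dvd_mul_right (s.relIndex_dvd _) _

omit h h3 in
theorem cit_of_two_power (hidx : ψ.range.index = 1 ∨ ψ.range.index = 2) {x : PS} (hx : orderOf x = 2)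
    {k : ℕ} (hm : Nat.card (Dickson.tor x) = 2 ^ k) : IsPGroup 2 (centralizer ({ψ x} : Set G)) := by
  have h1 := card_centralizer_dvd s hodd p hx
  rw [hm] at h1
  have h2 : Nat.card (centralizer ({ψ x} : Set G)) ∣ 2 ^ (k + 2) := h1.trans (by
    rcases hidx with e | e <;> rw [e, pow_add]
    · exact ⟨2, by ring⟩
    · exact ⟨1, by ring⟩)
  obtain ⟨j, -, hj⟩ := (Nat.dvd_prime_pow Nat.prime_two).1 h2
  exact IsPGroup.of_card hj

omit h h3 hodd s in
theorem exists_four {x : PS} (hx : orderOf x = 2) (hodd : Odd (Fintype.card F)) :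
    ∃ V : Subgroup PS, IsKleinFour V := by
  obtain ⟨hx1, hxp, hx2⟩ := Dickson.involution_semi p hodd hx
  set D := Dickson.pslData (F := F) p
  obtain ⟨w, hwN, hwT⟩ := Dickson.exists_flip p hx1 hxp
  obtain ⟨hw2, hinv⟩ := D.semi_flip hx1 hxp ((D.mem_normalizer_iff hx1).1 hwN) hwT
  have hc : x * w = w * x := by
    have h1 := hinv x (D.self x)
    rw [inv_eq_of_mul_eq_one_right hx2, mul_inv_eq_iff_eq_mul] at h1
    exact h1.symm
  exact ⟨_, Dickson.isKleinFour_fourGroup hx2 hw2 hc hx1 (fun e => hwT (e ▸ one_mem _))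
    (fun e => hwT (e ▸ D.self x))⟩

/-- The normaliser of a four group contains a Sylow 2-subgroup. -/
theorem exists_central (hidx : ψ.range.index = 1 ∨ ψ.range.index = 2) {V : Subgroup PS} (hV : IsKleinFour V)
    {c o : ℕ} (hc : Nat.card (normalizer (V : Set PS)) = c) (h3c : 3 ∣ c) (ho : Odd o)
    (hPS : Nat.card PS = c * o) :
    ∃ (T : Sylow 2 G) (y : PS) (d : G), orderOf y = 2 ∧ (∀ a ∈ (T : Subgroup G), a * ψ y = ψ y * a) ∧
      (T : Subgroup G) ≤ normalizer ((V.map ψ : Subgroup G) : Set G) ∧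
      d ∈ normalizer ((V.map ψ : Subgroup G) : Set G) ∧ orderOf d = 3 := by
  haveI := Fact.mk Nat.prime_two
  haveI := Fact.mk Nat.prime_three
  set W := V.map ψ with hW
  have hWp : IsPGroup 2 W := (IsPGroup.of_card (p := 2) (n := 2) (G := V) hV.card_four).map ψ
  have hW1 : W ≠ ⊥ := fun e => by
    rw [hW, map_eq_bot_iff_of_injective _ s.inj] at e
    have h4 := hV.card_four
    rw [e, Subgroup.card_bot] at h4
    omega
  have hco := h.coatom' hW1 (twoPr_pGroup Nat.prime_two hWp)
  set N := normalizer (W : Set G) with hN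
  have hcN : Nat.card (N.comap ψ) = c := by rw [hN, hW, s.comap_normalizer, hc]
  have hrel : ψ.range.relIndex N = ψ.range.index := by
    by_cases hle : N ≤ ψ.range
    · rcases (hco.le_iff).1 hle with e | e
      · rw [index_eq_one.2 e, relIndex_eq_one]; exact hle
      · exfalso
        have hall : ∀ y : PS, y ∈ N.comap ψ := fun y => mem_comap.2 (e ▸ ⟨y, rfl⟩)
        rw [show N.comap ψ = ⊤ from eq_top_iff.2 fun y _ => hall y, Subgroup.card_top] at hcN
        haveI : V.Normal := normalizer_eq_top_iff.1 (eq_top_iff.2 fun y _ => s.comap_normalizer V ▸ hall y)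
        haveI := Invol.GW.Klein.PSL.isSimple (F := F) (by obtain ⟨k, hk⟩ := hodd; omega)
        rcases (inferInstance : V.Normal).eq_bot_or_eq_top with e' | e'
        · rw [hW, e', Subgroup.map_bot] at hW1; exact hW1 rfl
        · have := hV.card_four
          rw [e', Subgroup.card_top, hcN] at this
          omega
    · have h1 : ψ.range.relIndex N ≠ 1 := fun e => hle (relIndex_eq_one.1 e)
      have h2 := s.relIndex_dvd N
      rcases hidx with e | e <;> rw [e] at h2 ⊢
      · exact absurd (Nat.dvd_one.1 h2) h1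
      · exact ((Nat.dvd_prime Nat.prime_two).1 h2).resolve_left h1
  have hNc : Nat.card N = ψ.range.index * c := by rw [s.card_eq, hrel, hcN]
  have hNi : N.index = o := by
    have h1 := N.card_mul_index
    rw [hNc, s.card_group, hPS, ← mul_assoc] at h1
    exact Nat.eq_of_mul_eq_mul_left (hNc ▸ Nat.card_pos) h1
  obtain ⟨P⟩ : Nonempty (Sylow 2 N) := inferInstance
  have hTp : IsPGroup 2 ((P : Subgroup N).map N.subtype) := P.isPGroup'.map _
  have hTi : ¬ 2 ∣ ((P : Subgroup N).map N.subtype).index := by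
    rw [index_map_subtype, hNi]
    exact Nat.prime_two.not_dvd_mul P.not_dvd_index fun e => Nat.not_even_iff_odd.2 ho (even_iff_two_dvd.2 e)
  set T := hTp.toSylow hTi with hT
  have hTN : (T : Subgroup G) ≤ N := map_subtype_le _
  have hWT : W ≤ (T : Subgroup G) :=
    (le_sup_right : W ≤ (T : Subgroup G) ⊔ W).trans_eq
      (T.3 (IsPGroup.to_sup_of_normal_right' T.isPGroup' hWp hTN) le_sup_left)
  obtain ⟨z, ⟨y, -, rfl⟩, hz, hzc⟩ := exists_central_of_normal T.isPGroup' hWT hW1 hTN
  obtain ⟨d, hd⟩ := exists_prime_orderOf_dvd_card' (G := N) 3 (by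
    rw [hNc]; exact h3c.mul_left _)
  exact ⟨T, y, d, by rwa [orderOf_injective ψ s.inj] at hz, hzc, hTN, d.2, by rw [Subgroup.orderOf_coe, hd]⟩

end MN

end Cfsg.Agent.Invol.MaxNorm
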