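import Cfsg.Agent.Lib.Invol.MaxNorm.Linear
import Cfsg.Agent.Lib.Classical.DicksonEleven

/-!
# Maximal normalisers: only `PSL(2,13)` remains (for S4233)
-/

set_option autoImplicit false
set_option linter.style.haveILetI false

namespace Cfsg.Agent.Invol.MaxNorm

open Subgroup
open scoped Pointwise

universe u

variable {G : Type u} [Group G] [Finite G] {F : Type} [Field F] [Fintype F]

local notation "PS" => Matrix.ProjectiveSpecialLinearGroup (Fin 2) F

/-- Arithmetic of the three linked primes. -/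
theorem prime_triple {p r l : ℕ} (hp : p.Prime) (hr : r.Prime) (hr2 : r ≠ 2) (hl : l.Prime)
    (h : (p = 4 * r + 1 ∧ l = 2 * r + 1) ∨ (p + 1 = 4 * r ∧ l + 1 = 2 * r)) : r = 3 := by
  have h2 := hr.two_le
  by_contra h3
  have hr3 : ¬ 3 ∣ r := fun hd => h3 ((Nat.prime_dvd_prime_iff_eq Nat.prime_three hr).1 hd).symm
  have : 3 ∣ p ∨ 3 ∣ l := by
    rcases h with ⟨e1, e2⟩ | ⟨e1, e2⟩ <;> rcases (show r % 3 = 1 ∨ r % 3 = 2 by omega) with e | e <;>
      first | (left; omega) | (right; omega)
  rcases this with hd | hd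
  · have := (Nat.prime_dvd_prime_iff_eq Nat.prime_three hp).1 hd
    omega
  · have := (Nat.prime_dvd_prime_iff_eq Nat.prime_three hl).1 hd
    omega

variable (h : MN G) {ψ : Matrix.ProjectiveSpecialLinearGroup (Fin 2) F →* G} (s : SocPSL ψ)
  (hodd : Odd (Fintype.card F)) (h3 : 3 < Fintype.card F)
include h s hodd h3

namespace MN

variable (p : ℕ) [hp : Fact p.Prime] [CharP F p] (hq : Fintype.card F = p)
include p hp hq

omit h s in
theorem psl_facts : Nat.card PS * 2 = p * ((p - 1) * (p + 1)) ∧ Dickson.del F = 2 ∧ p % 2 = 1 ∧ 5 ≤ p := by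
  have hd : Dickson.del F = 2 := by
    rcases Dickson.del_cases F with ⟨-, he⟩ | ⟨hd, -⟩
    · exact absurd he (Nat.not_even_iff_odd.2 hodd)
    · exact hd
  have h1 := Dickson.card_psl (F := F)
  rw [hd, hq] at h1
  have h2 : p % 2 = 1 := Nat.odd_iff.1 (hq ▸ hodd)
  refine ⟨h1, hd, h2, ?_⟩
  rw [hq] at h3
  omega

theorem other_torus : ((p % 4 = 1 → ((p + 1) / 2).Prime) ∧ (p % 4 = 3 → ((p - 1) / 2).Prime)) := by
  obtain ⟨-, hd, h2, h5⟩ := psl_facts hodd h3 p hq
  constructor
  · intro h4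
    obtain ⟨a, ha, hap, hc⟩ := Dickson.exists_tor_plus (F := F) p
    rw [hd, hq] at hc
    rw [← hc]
    exact h.torus_prime s hodd h3 p ha hap (by rw [hc, Nat.odd_iff]; omega) (by rw [hc]; omega)
  · intro h4
    obtain ⟨a, ha, hap, hc⟩ := Dickson.exists_tor_minus (F := F) p (by rw [hd, hq]; omega)
    rw [hd, hq] at hc
    rw [← hc]
    exact h.torus_prime s hodd h3 p ha hap (by rw [hc, Nat.odd_iff]; omega) (by rw [hc]; omega)

omit h s in
theorem card_tor {x : PS} (hx : orderOf x = 2) :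
    (p % 4 = 1 → Nat.card (Dickson.tor x) = (p - 1) / 2) ∧
      (p % 4 = 3 → Nat.card (Dickson.tor x) = (p + 1) / 2) := by
  have := (Dickson.card_tor_involution p hodd hx).2
  rwa [hq] at this

/-- For `p ≡ ±1 (mod 8)` only `7` remains. -/
theorem eq_seven (h8 : p % 8 = 1 ∨ p % 8 = 7) : p = 7 := by
  haveI := Fact.mk Nat.prime_two
  obtain ⟨-, hd, h2, h5⟩ := psl_facts hodd h3 p hq
  have hidx := index_le_two s hodd h3 (hq ▸ hp.out)
  set D := Dickson.pslData (F := F) p
  obtain ⟨x₀, hx₀⟩ := Dickson.exists_involution (F := F) p hodd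
  obtain ⟨hx01, hx0p, -⟩ := Dickson.involution_semi p hodd hx₀
  have hm0 := card_tor hodd h3 p hq hx₀
  obtain ⟨g, hgT, hg4⟩ := Dickson.exists_orderOf_dvd p hx01 hx0p (n := 4) (by
    rcases h8 with e | e
    · rw [hm0.1 (by omega)]; omega
    · rw [hm0.2 (by omega)]; omega)
  set x := g * g with hxdef
  have hxT : x ∈ Dickson.tor x₀ := mul_mem hgT hgT
  have hx : orderOf x = 2 := by rw [hxdef, ← sq, orderOf_pow' _ (by norm_num), hg4]; rfl
  obtain ⟨hx1, hxp, -⟩ := Dickson.involution_semi p hodd hx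
  have htor : Dickson.tor x = Dickson.tor x₀ := D.same hx01 hxT hx1
  obtain ⟨w, hwN, hwT⟩ := Dickson.exists_flip p hx1 hxp
  obtain ⟨hw2, hinv⟩ := D.semi_flip hx1 hxp ((D.mem_normalizer_iff hx1).1 hwN) hwT
  have hgTx : g ∈ Dickson.tor x := htor ▸ hgT
  have hw : orderOf (ψ w) = 2 := by
    rw [orderOf_injective ψ s.inj]
    exact orderOf_eq_prime (by rw [sq, hw2]) fun e => hwT (e ▸ one_mem _)
  have hg : orderOf (ψ g) = 4 := by rw [orderOf_injective ψ s.inj, hg4]
  have hwg : ψ w * ψ g * (ψ w)⁻¹ = (ψ g)⁻¹ := by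
    rw [← map_inv, ← map_mul, ← map_mul, hinv g hgTx, map_inv]
  obtain ⟨k, o, ho, hko⟩ := Nat.exists_eq_two_pow_mul_odd (Nat.card_pos (α := Dickson.tor x)).ne'
  have ho1 : o = 1 := by
    rcases h.involution_odd_part s hodd h3 p hx ho hko with e | e
    · exact e
    exfalso
    have ho2 : o ≠ 2 := fun e2 => by rw [e2] at ho; exact absurd ho (by decide)
    obtain ⟨b, hbT, hb⟩ := Dickson.exists_orderOf_dvd p hx1 hxp (n := o) (hko ▸ dvd_mul_left o _)
    have m := s.mixed hx e ho2 hb (D.comm hx1 hbT (D.self x))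
    obtain ⟨j, -, hj⟩ := (Nat.dvd_prime_pow Nat.prime_two).1
      (show Nat.card ↥(zpowers (ψ g) ⊔ zpowers (ψ w)) ∣ 2 ^ 3 by
        have := card_dihedral_dvd hw hwg; rwa [hg] at this)
    have hc := h.mixed_comm m (IsPGroup.of_card hj) (by
      rw [sup_le_iff, zpowers_le, zpowers_le, mem_centralizer_singleton_iff, mem_centralizer_singleton_iff,
        ← map_mul, ← map_mul, ← map_mul, ← map_mul]
      refine ⟨congrArg ψ (by rw [hxdef, mul_assoc]), congrArg ψ ?_⟩
      have h1 := hinv x (D.self x)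
      rw [inv_eq_of_mul_eq_one_right ((sq x).symm.trans (orderOf_dvd_iff_pow_eq_one.1 hx.dvd)),
        mul_inv_eq_iff_eq_mul] at h1
      exact h1)
    have h1 := hc _ (mem_sup_right (mem_zpowers (ψ w))) _ (mem_sup_left (mem_zpowers (ψ g)))
    rw [h1, mul_inv_cancel_right] at hwg
    have h2' := orderOf_dvd_of_pow_eq_one (show ψ g ^ 2 = 1 by
      rw [sq]; nth_rewrite 2 [hwg]; exact mul_inv_cancel _)
    rw [hg] at h2'
    norm_num at h2'
  rw [ho1, mul_one] at hko
  have hcit : IsPGroup 2 (centralizer ({ψ g * ψ g} : Set G)) := by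
    rw [← map_mul]; exact cit_of_two_power s hodd p hidx hx hko
  obtain ⟨c, -, -, hco, htc⟩ := Dickson.exists_generator p hx1 hxp
  have hcT : c ∈ Dickson.tor x := htc ▸ D.self c
  have hc8 := h.eight_of_cit hg hw hwg hcit ((D.comm hx1 hcT hgTx).map ψ)
    (show ψ w * ψ c * (ψ w)⁻¹ = (ψ c)⁻¹ by
      rw [← map_inv, ← map_mul, ← map_mul, hinv c hcT, map_inv])
  rw [← map_pow] at hc8
  have hd8 := orderOf_dvd_of_pow_eq_one (s.inj (hc8.trans ψ.map_one.symm))
  rw [hco, hko] at hd8
  have hk : k ≤ 3 := (Nat.pow_dvd_pow_iff_le_right (by norm_num : 1 < 2)).1 (show 2 ^ k ∣ 2 ^ 3 from hd8)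
  have hm := card_tor hodd h3 p hq hx
  rcases h8 with e | e
  · have hm' := hm.1 (by omega)
    rw [hko] at hm'
    exfalso
    have hpr := hp.out
    interval_cases k <;> norm_num at hm'
    · omega
    · omega
    · have : p = 9 := by omega
      subst this
      norm_num at hpr
    · have : p = 17 := by omega
      subst this
      have h9 := (h.other_torus s hodd h3 17 hq).1 (by norm_num)
      norm_num at h9
  · have hm' := hm.2 (by omega)
    rw [hko] at hm'
    have hpr := hp.out
    interval_cases k <;> norm_num at hm'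
    · omega
    · omega
    · omega
    · have : p = 15 := by omega
      subst this
      norm_num at hpr

/-- For `p ≡ ±3 (mod 8)` only `5, 11, 13` remain. -/
theorem eq_small (h8 : p % 8 = 3 ∨ p % 8 = 5) : p = 5 ∨ p = 11 ∨ p = 13 := by
  obtain ⟨-, -, h2, h5⟩ := psl_facts hodd h3 p hq
  obtain ⟨x, hx⟩ := Dickson.exists_involution (F := F) p hodd
  have hm := card_tor hodd h3 p hq hx
  have hot := h.other_torus s hodd h3 p hq
  rcases h8 with e | e
  · have hm' := hm.2 (by omega)
    rcases h.involution_odd_part s hodd h3 p hx (k := 1) (o := (p + 1) / 4) (Nat.odd_iff.2 (by omega))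
      (by rw [hm']; omega) with e1 | e1
    · omega
    · have := prime_triple hp.out e1 (by omega) (hot.2 (by omega)) (Or.inr ⟨by omega, by omega⟩)
      omega
  · have hm' := hm.1 (by omega)
    rcases h.involution_odd_part s hodd h3 p hx (k := 1) (o := (p - 1) / 4) (Nat.odd_iff.2 (by omega))
      (by rw [hm']; omega) with e1 | e1
    · omega
    · have := prime_triple hp.out e1 (by omega) (hot.1 (by omega)) (Or.inl ⟨by omega, by omega⟩)
      omega

/-- `PSL(2,13)`. -/
theorem eq_thirteen : p = 13 ∧ ψ.range.index = 1 := by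
  haveI := Fact.mk Nat.prime_two
  haveI := Fact.mk Nat.prime_three
  obtain ⟨hcard, hd, h2, h5⟩ := psl_facts hodd h3 p hq
  have hidx := index_le_two s hodd h3 (hq ▸ hp.out)
  obtain ⟨x, hx⟩ := Dickson.exists_involution (F := F) p hodd
  obtain ⟨V, hV⟩ := exists_four p hx hodd
  obtain ⟨a, b, hab, hVab⟩ := Dickson.exists_quat_of_isKleinFour hodd hV
  have hN := Dickson.card_normalizer_klein p hodd hab
  rw [hVab, hq] at hN
  have hcases : p = 7 ∨ p = 5 ∨ p = 11 ∨ p = 13 := by
    by_cases h8 : p % 8 = 1 ∨ p % 8 = 7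
    · exact Or.inl (h.eq_seven s hodd h3 p hq h8)
    · exact Or.inr (h.eq_small s hodd h3 p hq (by omega))
  have hsmall : p ≠ 5 ∧ p ≠ 7 := by
    by_contra hne
    obtain ⟨c, o, hc, h3c, ho, hPS, k, hk⟩ : ∃ c o, Nat.card (normalizer (V : Set PS)) = c ∧ 3 ∣ c ∧ Odd o ∧
        Nat.card PS = c * o ∧ ∃ k, ∀ y : PS, orderOf y = 2 → Nat.card (Dickson.tor y) = 2 ^ k := by
      by_cases h57 : p = 5
      · subst h57
        refine ⟨12, 5, hN.2 (by norm_num), by norm_num, by decide, by norm_num at hcard; omega, 1, fun y hy => ?_⟩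
        rw [(card_tor hodd h3 5 hq hy).1 (by norm_num)]; norm_num
      · obtain rfl : p = 7 := by tauto
        refine ⟨24, 7, hN.1 (by norm_num), by norm_num, by decide, by norm_num at hcard; omega, 2, fun y hy => ?_⟩
        rw [(card_tor hodd h3 7 hq hy).2 (by norm_num)]; norm_num
    obtain ⟨T, y, d, hy, hTy, hTN, hd', hd3⟩ := h.exists_central s hodd h3 p hidx hV hc h3c ho hPS
    refine h.no_sylow_norm T (V := V.map ψ) (fun e => ?_)
      ((IsPGroup.of_card (p := 2) (n := 2) (G := V) hV.card_four).map ψ) hTN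
      (by rw [orderOf_injective ψ s.inj, hy]) hTy (cit_of_two_power s hodd p hidx hy (hk y hy)) hd' hd3
    rw [map_eq_bot_iff_of_injective _ s.inj] at e
    have h4 := hV.card_four
    rw [e, Subgroup.card_bot] at h4
    omega
  have hp' : p = 11 ∨ p = 13 := by rcases hcases with e | e | e | e <;> tauto
  obtain ⟨o, ho, hPS⟩ : ∃ o, Odd o ∧ Nat.card PS = 12 * o := by
    rcases hp' with rfl | rfl
    · exact ⟨55, by decide, by norm_num at hcard; omega⟩
    · exact ⟨91, by decide, by norm_num at hcard; omega⟩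
  have h12 : Nat.card (normalizer (V : Set PS)) = 12 := hN.2 (by rcases hp' with rfl | rfl <;> norm_num)
  obtain ⟨T, y, d, hy, hTy, -, -, -⟩ := h.exists_central s hodd h3 p hidx hV h12 (by norm_num) ho hPS
  obtain ⟨hy1, hyp, -⟩ := Dickson.involution_semi p hodd hy
  obtain ⟨b, hbT, hb⟩ := Dickson.exists_orderOf_dvd p hy1 hyp (n := 3) (by
    rcases hp' with rfl | rfl
    · rw [(card_tor hodd h3 11 hq hy).2 (by norm_num)]; norm_num
    · rw [(card_tor hodd h3 13 hq hy).1 (by norm_num)]; norm_num)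
  have m := s.mixed hy Nat.prime_three (by norm_num) hb
    ((Dickson.pslData (F := F) p).comm hy1 hbT ((Dickson.pslData (F := F) p).self y))
  have hTc : Comm (T : Subgroup G) :=
    h.mixed_comm m T.isPGroup' fun g hg => mem_centralizer_singleton_iff.2 (hTy g hg)
  have hi1 : ψ.range.index = 1 := by
    refine hidx.resolve_right fun hi => ?_
    have hG : Nat.card G = 24 * o := by rw [s.card_group, hi, hPS]; ring
    have h8 : Nat.card (T : Subgroup G) = 8 := by
      have hd8 : 2 ^ 3 ∣ Nat.card (T : Subgroup G) :=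
        T.pow_dvd_card_of_pow_dvd_card ⟨3 * o, by rw [hG]; ring⟩
      obtain ⟨j, hj⟩ := T.isPGroup'.exists_card_eq
      rw [hj] at hd8 ⊢
      have hj3 : j ≤ 3 := by
        by_contra hlt
        have h16 : 2 ^ 4 ∣ Nat.card G :=
          ((Nat.pow_dvd_pow 2 (by omega : 4 ≤ j)).trans (dvd_of_eq hj.symm)).trans (card_subgroup_dvd_card _)
        rw [hG] at h16
        obtain ⟨e, rfl⟩ := ho
        omega
      have := (Nat.pow_dvd_pow_iff_le_right (by norm_num : 1 < 2)).1 hd8
      rw [show j = 3 by omega]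
      norm_num
    rcases (h.sylow_cases m).1 T with ⟨-, hne⟩ | ⟨-, hnc⟩
    · exact hne h8
    · exact hnc hTc
  refine ⟨hp'.resolve_left fun h11 => ?_, hi1⟩
  subst h11
  haveI : ψ.range.Normal := s.normal
  have hsur : Function.Surjective ψ := MonoidHom.range_eq_top.1 (index_eq_one.1 hi1)
  obtain ⟨H, ⟨e⟩⟩ := (Dickson.Ico.exists_alt5_iff (F := F)).2 (by
    norm_num at hcard; omega)
  set f := H.subtype.comp e.symm.toMonoidHom with hf
  have hfi : Function.Injective f := H.subtype_injective.comp e.symm.injective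
  obtain ⟨-, S, hS, hNS, hS4⟩ := Dickson.Eleven.sylow_data hq f hfi
  obtain ⟨-, -, hne⟩ := Dickson.Eleven.range_data hq f hfi
  have hSψ : S.map ψ ≠ ⊥ := fun e' => by
    rw [map_eq_bot_iff_of_injective _ s.inj] at e'
    rw [e', Subgroup.card_bot] at hS4
    omega
  have hco := h.coatom' hSψ (twoPr_pGroup Nat.prime_two
    ((IsPGroup.of_card (p := 2) (n := 2) (G := S) hS4).map ψ))
  rw [← map_comap_eq_self_of_surjective hsur (normalizer ((S.map ψ : Subgroup G) : Set G)),
    s.comap_normalizer] at hco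
  have hNf : normalizer (S : Set PS) = f.range := by
    refine le_antisymm hNS (map_le_map_iff_of_injective s.inj |>.1 ?_)
    rcases (hco.le_iff).1 (map_mono (f := ψ) hNS) with e' | e'
    · exfalso
      refine hne (map_injective s.inj ?_)
      rw [e', map_top_of_surjective _ hsur]
    · exact le_of_eq e'
  haveI : IsSimpleGroup (alternatingGroup (Fin 5)) := alternatingGroup.isSimpleGroup (by simp)
  have hSn : (S.comap f).Normal := ⟨fun n hn g => by
    rw [mem_comap] at hn ⊢
    rw [map_mul, map_mul, map_inv]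
    exact (mem_normalizer_iff.1 (hNf.symm ▸ ⟨g, rfl⟩ : f g ∈ normalizer (S : Set PS)) (f n)).1 hn⟩
  have h4 : Nat.card (S.comap f) = 4 := by
    rw [← hS4, ← card_map_of_injective hfi, map_comap_eq_self hS]
  rcases hSn.eq_bot_or_eq_top with e' | e'
  · rw [e', Subgroup.card_bot] at h4
    omega
  · rw [e', Subgroup.card_top, nat_card_alternatingGroup, Nat.card_fin] at h4
    exact absurd h4 (by decide)

end MN

end Cfsg.Agent.Invol.MaxNorm
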