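import Cfsg.Agent.Lib.Invol.MaxNorm.Basic
import Cfsg.Agent.S0225

/-!
# Maximal normalisers: an involution centralizer that is not a 2-group (for S4233)
-/

set_option autoImplicit false
set_option linter.style.haveILetI false

namespace Cfsg.Agent.Invol.MaxNorm

open Subgroup
open scoped Pointwise

universe u

variable {G : Type u} [Group G]

/-- A maximal 2-subgroup of `M`. -/
structure MaxTwo (M S : Subgroup G) : Prop where
  le : S ≤ M
  isP : IsPGroup 2 S
  max : ∀ T : Subgroup G, T ≤ M → IsPGroup 2 T → S ≤ T → T = S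

variable [Finite G]

theorem exists_maxTwo {M A : Subgroup G} (hA : IsPGroup 2 A) (hAM : A ≤ M) :
    ∃ S : Subgroup G, A ≤ S ∧ MaxTwo M S := by
  obtain ⟨P, hP⟩ := (hA.comap_of_injective M.subtype M.subtype_injective).exists_le_sylow
  refine ⟨(P : Subgroup M).map M.subtype, fun a ha => ⟨⟨a, hAM ha⟩, hP ha, rfl⟩, map_subtype_le _,
    P.isPGroup'.map _, fun T hT hT2 hle => ?_⟩
  have h1 : T.comap M.subtype = (P : Subgroup M) :=
    P.is_maximal' (hT2.comap_of_injective M.subtype M.subtype_injective)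
      fun x hx => hle ⟨x, hx, rfl⟩
  rw [← h1]
  exact (map_comap_eq_self (by rwa [range_subtype])).symm

theorem ne_one_of_orderOf {x : G} {n : ℕ} (hn : n ≠ 1) (h : orderOf x = n) : x ≠ 1 := by
  rintro rfl; exact hn (by rw [← h, orderOf_one])

theorem sq_eq_one_of_two {t : G} (ht : orderOf t = 2) : t * t = 1 := by
  rw [← sq, ← ht, pow_orderOf_eq_one]

theorem inv_eq_self_of_two {t : G} (ht : orderOf t = 2) : t⁻¹ = t :=
  inv_eq_of_mul_eq_one_left (sq_eq_one_of_two ht)

theorem zpowers_ne_bot' {x : G} (hx : x ≠ 1) : zpowers x ≠ ⊥ := fun e => hx (zpowers_eq_bot.1 e)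

/-- In a cyclic group of prime order every nontrivial element generates. -/
theorem commute_of_mem_zpowers_prime {p : ℕ} (hp : p.Prime) {b c u : G} (hb : orderOf b = p)
    (hc : c ∈ zpowers b) (hc1 : c ≠ 1) (hu : Commute u c) : Commute u b := by
  haveI := Fact.mk hp
  have h1 : zpowers c = zpowers b := eq_of_le_of_card_ge (zpowers_le.2 hc) (by
    rw [Nat.card_zpowers, Nat.card_zpowers, hb]
    rcases (Nat.dvd_prime hp).1 (hb ▸ orderOf_dvd_of_mem_zpowers hc) with e | e
    · exact absurd (orderOf_eq_one_iff.1 e) hc1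
    · rw [e])
  obtain ⟨i, hi⟩ := mem_zpowers_iff.1 (h1 ▸ mem_zpowers b : b ∈ zpowers c)
  exact hi ▸ hu.zpow_right i

namespace MN

variable (h : MN G) {t : G} (ht : orderOf t = 2) {p : ℕ} (hp : p.Prime) (hp2 : p ≠ 2) {b : G}
  (hb : orderOf b = p) (hbt : Commute b t)

include h ht in
theorem norm_odd {q : ℕ} (hq : q.Prime) (hq2 : q ≠ 2) {Q : Subgroup G} (hQ : IsPGroup q Q) (hQ1 : Q ≠ ⊥)
    (hQt : Q ≤ centralizer ({t} : Set G)) :
    normalizer (Q : Set G) = centralizer ({t} : Set G) := by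
  rw [← Transfer.NormCyc.normalizer_zpowers_invol ht]
  refine h.norm_comm hq Nat.prime_two hq2 hQ hQ1 (isPGroup_zpowers (k := 1) (by rw [ht, pow_one]))
    (zpowers_ne_bot' (ne_one_of_orderOf (by norm_num) ht)) fun a ha c hc => ?_
  obtain ⟨i, rfl⟩ := mem_zpowers_iff.1 hc
  exact ((show Commute a t from mem_centralizer_singleton_iff.1 (hQt ha)).zpow_right i).eq

include h ht hp hp2 hb hbt in
theorem norm_b : normalizer (zpowers b : Set G) = centralizer ({t} : Set G) :=
  h.norm_odd ht hp hp2 (isPGroup_zpowers (k := 1) (by rw [hb, pow_one]))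
    (zpowers_ne_bot' (ne_one_of_orderOf hp.ne_one hb)) (zpowers_le.2 (mem_centralizer_singleton_iff.2 hbt))

include h ht hp hp2 hb hbt in
theorem norm_two {Q : Subgroup G} (hQ : IsPGroup 2 Q) (hQ1 : Q ≠ ⊥) (hQb : ∀ x ∈ Q, x * b = b * x) :
    normalizer (Q : Set G) = centralizer ({t} : Set G) := by
  rw [← h.norm_b ht hp hp2 hb hbt]
  refine h.norm_comm Nat.prime_two hp hp2.symm hQ hQ1 (isPGroup_zpowers (k := 1) (by rw [hb, pow_one]))
    (zpowers_ne_bot' (ne_one_of_orderOf hp.ne_one hb)) fun a ha c hc => ?_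
  obtain ⟨i, rfl⟩ := mem_zpowers_iff.1 hc
  exact ((show Commute a b from hQb a ha).zpow_right i).eq

include h ht hp hp2 hb hbt in
theorem cent_eq {x : G} (hx : orderOf x = 2) (hxb : Commute x b) :
    centralizer ({x} : Set G) = centralizer ({t} : Set G) := by
  rw [← Transfer.NormCyc.normalizer_zpowers_invol hx]
  refine h.norm_two ht hp hp2 hb hbt (isPGroup_zpowers (k := 1) (by rw [hx, pow_one]))
    (zpowers_ne_bot' (ne_one_of_orderOf (by norm_num) hx)) fun a ha => ?_
  obtain ⟨i, rfl⟩ := mem_zpowers_iff.1 ha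
  exact (hxb.zpow_left i).eq

include h ht in
theorem mem_of_conj_cent {g : G}
    (hg : centralizer ({g * t * g⁻¹} : Set G) = centralizer ({t} : Set G)) :
    g ∈ centralizer ({t} : Set G) := by
  set M := centralizer ({t} : Set G) with hM
  have hmap : M.map (MulAut.conj g).toMonoidHom = centralizer ({g * t * g⁻¹} : Set G) := by
    ext x
    constructor
    · rintro ⟨y, hy, rfl⟩
      refine mem_centralizer_singleton_iff.2 ?_
      simp only [MulEquiv.coe_toMonoidHom, MulAut.conj_apply]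
      rw [show g * y * g⁻¹ * (g * t * g⁻¹) = g * (y * t) * g⁻¹ by group,
        mem_centralizer_singleton_iff.1 hy]
      group
    · intro hx
      refine ⟨g⁻¹ * x * g, mem_centralizer_singleton_iff.2 ?_, by simp [mul_assoc]⟩
      calc g⁻¹ * x * g * t = g⁻¹ * (x * (g * t * g⁻¹)) * g := by group
        _ = g⁻¹ * ((g * t * g⁻¹) * x) * g := by rw [mem_centralizer_singleton_iff.1 hx]
        _ = _ := by group
  have hgN : g ∈ normalizer (M : Set G) := mem_normalizer_of_map_mem fun a ha =>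
    hg ▸ hmap ▸ ⟨a, ha, rfl⟩
  rcases ((h.coatom_centralizer ht).le_iff).1 (le_normalizer : M ≤ normalizer (M : Set G)) with e | e
  swap
  · rwa [e] at hgN
  exfalso
  haveI : M.Normal := normalizer_eq_top_iff.1 e
  have hZ : ((center M).map M.subtype).Normal := ConjAct.normal_of_characteristic_of_normal
  have hZ1 := h.rad _ hZ (Grp.isSolvable_map (Group.isSolvable_of_comm fun a b =>
    Subtype.ext (mem_center_iff.1 b.2 a)) _)
  have : t ∈ (center M).map M.subtype := ⟨⟨t, mem_centralizer_singleton_iff.2 rfl⟩,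
    mem_center_iff.2 fun m => Subtype.ext (mem_centralizer_singleton_iff.1 m.2), rfl⟩
  exact ne_one_of_orderOf (by norm_num) ht (mem_bot.1 (hZ1 ▸ this))

include h ht hp hp2 hb hbt in
/-- `t` is the only involution commuting with `t` and `b`. -/
theorem eq_t {x : G} (hx : orderOf x = 2) (hxt : Commute x t) (hxb : Commute x b) : x = t := by
  by_contra hne
  set M := centralizer ({t} : Set G) with hM
  have hxM : x ∈ M := mem_centralizer_singleton_iff.2 hxt
  have hCx := h.cent_eq ht hp hp2 hb hbt hx hxb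
  have htx : orderOf (t * x) = 2 := orderOf_eq_prime (by
    rw [hxt.symm.mul_pow, sq, sq, sq_eq_one_of_two ht, sq_eq_one_of_two hx, mul_one]) fun e => hne (by
      rw [← inv_eq_self_of_two ht]; exact eq_inv_of_mul_eq_one_right e)
  have hCtx := h.cent_eq ht hp hp2 hb hbt htx (hbt.symm.mul_left hxb)
  -- conjugates of the four group lying in `M`
  have key : ∀ g : G, g * t * g⁻¹ ∈ M → g * x * g⁻¹ ∈ M → g ∈ M := by
    intro g hgt hgx
    have hNb := h.norm_b ht hp hp2 hb hbt
    have hinv : ∀ v : G, orderOf v = 2 → v ∈ M → ¬ Commute v b → v * b * v⁻¹ = b⁻¹ := by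
      intro v hv hvM hvb
      have hc : v * b * v⁻¹ ∈ zpowers b := (mem_normalizer_iff.1 (hNb ▸ hvM) b).1 (mem_zpowers b)
      by_contra hne'
      refine hvb (commute_of_mem_zpowers_prime hp hb (mul_mem hc (mem_zpowers b))
        (fun e => hne' (eq_inv_of_mul_eq_one_left e)) ?_)
      have hcb : Commute (v * b * v⁻¹) b := by
        obtain ⟨i, hi⟩ := mem_zpowers_iff.1 hc
        rw [← hi]; exact Commute.zpow_self b i
      have h1 : v * (v * b * v⁻¹ * b) * v⁻¹ = v * b * v⁻¹ * b := by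
        rw [hcb.eq]
        conv_rhs => rw [← hcb.eq]
        rw [inv_eq_self_of_two hv]
        calc v * (b * (v * b * v)) * v = v * b * v * b * (v * v) := by simp only [mul_assoc]
          _ = _ := by rw [sq_eq_one_of_two hv, mul_one]
      exact mul_inv_eq_iff_eq_mul.1 h1
    have hconj : ∀ v, orderOf v = 2 → orderOf (g * v * g⁻¹) = 2 := fun v hv => by
      rw [← hv]; exact orderOf_injective (MulAut.conj g).toMonoidHom (MulAut.conj g).injective v
    suffices hcase : ∀ v : G, centralizer ({v} : Set G) = M → orderOf v = 2 → Commute (g * v * g⁻¹) b →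
        g ∈ M by
      by_contra hgM
      have h1 : ¬ Commute (g * t * g⁻¹) b := fun e => hgM (hcase t rfl ht e)
      have h2 : ¬ Commute (g * x * g⁻¹) b := fun e => hgM (hcase x hCx hx e)
      have h3 : Commute (g * (t * x) * g⁻¹) b := by
        have e1 := hinv _ (hconj t ht) hgt h1
        have e2 := hinv _ (hconj x hx) hgx h2
        refine mul_inv_eq_iff_eq_mul.1 ?_
        calc g * (t * x) * g⁻¹ * b * (g * (t * x) * g⁻¹)⁻¹
            = (g * t * g⁻¹) * ((g * x * g⁻¹) * b * (g * x * g⁻¹)⁻¹) * (g * t * g⁻¹)⁻¹ := by group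
          _ = ((g * t * g⁻¹) * b * (g * t * g⁻¹)⁻¹)⁻¹ := by rw [e2]; group
          _ = b := by rw [e1, inv_inv]
      exact hgM (hcase _ hCtx htx h3)
    intro v hCv hv hc
    refine h.mem_of_conj_cent ht ?_
    have e1 := h.cent_eq ht hp hp2 hb hbt (hconj v hv) hc
    rw [← e1]
    have e2 : ∀ y, y ∈ centralizer ({v} : Set G) ↔ y ∈ M := fun y => by rw [hCv]
    ext y
    rw [mem_centralizer_singleton_iff, mem_centralizer_singleton_iff]
    have e3 := e2 (g⁻¹ * y * g)
    rw [mem_centralizer_singleton_iff, hM, mem_centralizer_singleton_iff] at e3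
    constructor
    · intro hy
      have := e3.2 (by
        calc g⁻¹ * y * g * t = g⁻¹ * (y * (g * t * g⁻¹)) * g := by group
          _ = g⁻¹ * ((g * t * g⁻¹) * y) * g := by rw [hy]
          _ = _ := by group)
      calc y * (g * v * g⁻¹) = g * (g⁻¹ * y * g * v) * g⁻¹ := by group
        _ = g * (v * (g⁻¹ * y * g)) * g⁻¹ := by rw [this]
        _ = _ := by group
    · intro hy
      have := e3.1 (by
        calc g⁻¹ * y * g * v = g⁻¹ * (y * (g * v * g⁻¹)) * g := by group
          _ = g⁻¹ * ((g * v * g⁻¹) * y) * g := by rw [hy]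
          _ = _ := by group)
      calc y * (g * t * g⁻¹) = g * (g⁻¹ * y * g * t) * g⁻¹ := by group
        _ = g * (t * (g⁻¹ * y * g)) * g⁻¹ := by rw [this]
        _ = _ := by group
  refine h.not_isolated ⟨ht, fun g hc => ?_⟩
  have hgM : g * t * g⁻¹ ∈ M := mem_centralizer_singleton_iff.2 hc.symm
  have hxg : Commute (g * t * g⁻¹) x := mem_centralizer_singleton_iff.1 (hCx.symm ▸ hgM)
  have hg' : g⁻¹ ∈ M := key g⁻¹
    (mem_centralizer_singleton_iff.2 (by
      calc g⁻¹ * t * g⁻¹⁻¹ * t = g⁻¹ * (t * (g * t * g⁻¹)) * g := by group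
        _ = g⁻¹ * ((g * t * g⁻¹) * t) * g := by rw [hc.eq]
        _ = _ := by group))
    (mem_centralizer_singleton_iff.2 (by
      calc g⁻¹ * x * g⁻¹⁻¹ * t = g⁻¹ * (x * (g * t * g⁻¹)) * g := by group
        _ = g⁻¹ * ((g * t * g⁻¹) * x) * g := by rw [hxg.eq]
        _ = _ := by group))
  have := mem_centralizer_singleton_iff.1 ((inv_mem_iff).1 hg')
  rw [this, mul_inv_cancel_right]

include h ht hp hp2 hb hbt in
theorem inverts {v : G} (hv : orderOf v = 2) (hvt : Commute v t) (hne : v ≠ t) : v * b * v⁻¹ = b⁻¹ := by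
  have hc : v * b * v⁻¹ ∈ zpowers b :=
    (mem_normalizer_iff.1 (h.norm_b ht hp hp2 hb hbt ▸ mem_centralizer_singleton_iff.2 hvt) b).1 (mem_zpowers b)
  by_contra hne'
  refine hne (h.eq_t ht hp hp2 hb hbt hv hvt (commute_of_mem_zpowers_prime hp hb (mul_mem hc (mem_zpowers b))
    (fun e => hne' (eq_inv_of_mul_eq_one_left e)) ?_))
  have hcb : Commute (v * b * v⁻¹) b := by
    obtain ⟨i, hi⟩ := mem_zpowers_iff.1 hc
    rw [← hi]; exact Commute.zpow_self b i
  have h1 : v * (v * b * v⁻¹ * b) * v⁻¹ = v * b * v⁻¹ * b := by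
    rw [hcb.eq]
    conv_rhs => rw [← hcb.eq]
    rw [inv_eq_self_of_two hv]
    calc v * (b * (v * b * v)) * v = v * b * v * b * (v * v) := by simp only [mul_assoc]
      _ = _ := by rw [sq_eq_one_of_two hv, mul_one]
  exact mul_inv_eq_iff_eq_mul.1 h1

omit [Finite G] in
theorem commute_b_of_normal {S : Subgroup G} (hS : IsPGroup 2 S) {b : G} {p : ℕ} (hp : p.Prime) (hp2 : p ≠ 2)
    (hb : orderOf b = p) (hbS : b ∈ normalizer (S : Set G)) {s : G} (hs : s ∈ S)
    (hsb : s * b * s⁻¹ ∈ zpowers b) : Commute s b := by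
  obtain ⟨k, hk⟩ := hS ⟨s * b * s⁻¹ * b⁻¹, by
    rw [show s * b * s⁻¹ * b⁻¹ = s * (b * s⁻¹ * b⁻¹) by group]
    exact mul_mem hs ((mem_normalizer_iff.1 hbS s⁻¹).1 (inv_mem hs))⟩
  have h2 : (s * b * s⁻¹ * b⁻¹) ^ 2 ^ k = 1 := congrArg Subtype.val hk
  have hd : orderOf (s * b * s⁻¹ * b⁻¹) ∣ p :=
    hb ▸ orderOf_dvd_of_mem_zpowers (mul_mem hsb (inv_mem (mem_zpowers b)))
  have h1 : s * b * s⁻¹ * b⁻¹ = 1 := orderOf_eq_one_iff.1 (Nat.eq_one_of_dvd_coprimes
    (Nat.Coprime.pow_left k ((Nat.coprime_primes Nat.prime_two hp).2 hp2.symm))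
    (orderOf_dvd_of_pow_eq_one h2) hd)
  exact mul_inv_eq_iff_eq_mul.1 (mul_inv_eq_one.1 h1)

include h ht hp hp2 hb hbt in
/-- A second involution central in a Sylow subgroup of the centralizer. -/
theorem exists_u {S : Subgroup G} (hS : MaxTwo (centralizer ({t} : Set G)) S) :
    t ∈ S ∧ ∃ v ∈ S, orderOf v = 2 ∧ v ≠ t ∧ ∀ s ∈ S, s * v = v * s := by
  haveI : Fact (Nat.Prime 2) := ⟨Nat.prime_two⟩
  have hSt : ∀ s ∈ S, s * t = t * s := fun s hs => mem_centralizer_singleton_iff.1 (hS.le hs)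
  have htS : t ∈ S := by
    have hn : S ≤ normalizer (zpowers t : Set G) := by
      rw [Transfer.NormCyc.normalizer_zpowers_invol ht]; exact hS.le
    have := hS.max (S ⊔ zpowers t) (sup_le hS.le (zpowers_le.2 (mem_centralizer_singleton_iff.2 rfl)))
      (IsPGroup.to_sup_of_normal_right' hS.isP (isPGroup_zpowers (k := 1) (by rw [ht, pow_one])) hn) le_sup_left
    exact this ▸ mem_sup_right (mem_zpowers t)
  refine ⟨htS, ?_⟩
  by_contra hno
  push Not at hno
  have hS1 : S ≠ ⊥ := fun e => ne_one_of_orderOf (by norm_num) ht (mem_bot.1 (e ▸ htS))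
  -- the normaliser of `S` fixes `t`
  have hN : normalizer (S : Set G) ≤ centralizer ({t} : Set G) := by
    intro g hg
    refine mem_centralizer_singleton_iff.2 ?_
    by_contra hne
    obtain ⟨s, hs, hsne⟩ := hno (g * t * g⁻¹) ((mem_normalizer_iff.1 hg t).1 htS)
      (by rw [← ht]; exact orderOf_injective (MulAut.conj g).toMonoidHom (MulAut.conj g).injective t)
      (fun e => hne (mul_inv_eq_iff_eq_mul.1 e))
    refine hsne ?_
    have h1 := hSt (g⁻¹ * s * g) (by
      have := (mem_normalizer_iff.1 (inv_mem hg) s).1 hs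
      rwa [inv_inv] at this)
    calc s * (g * t * g⁻¹) = g * (g⁻¹ * s * g * t) * g⁻¹ := by group
      _ = g * (t * (g⁻¹ * s * g)) * g⁻¹ := by rw [h1]
      _ = _ := by group
  have hNS : normalizer (S : Set G) = centralizer ({t} : Set G) := by
    rcases (h.coatom' hS1 (twoPr_pGroup Nat.prime_two hS.isP)).le_iff.1 hN with e | e
    · exact absurd e (h.coatom_centralizer ht).1
    · exact e.symm
  have hSb : ∀ s ∈ S, Commute s b := fun s hs => commute_b_of_normal hS.isP hp hp2 hb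
    (hNS.symm ▸ mem_centralizer_singleton_iff.2 hbt) hs
    ((mem_normalizer_iff.1 (h.norm_b ht hp hp2 hb hbt ▸ hS.le hs) b).1 (mem_zpowers b))
  -- `S` is a Sylow subgroup of `G` with one involution
  obtain ⟨P, hP⟩ := hS.isP.exists_le_sylow
  have hPS : (P : Subgroup G) = S := by
    by_contra hne
    have hlt : S.subgroupOf (P : Subgroup G) < ⊤ := lt_top_iff_ne_top.2 fun e =>
      hne (le_antisymm (fun x hx => mem_subgroupOf.1 (e ▸ mem_top (⟨x, hx⟩ : (P : Subgroup G)))) hP)
    haveI := P.isPGroup'.isNilpotent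
    obtain ⟨x, hxN, hxS⟩ := SetLike.exists_of_lt (Group.normalizerCondition_of_isNilpotent _ hlt)
    have hxN' : (x : G) ∈ normalizer (S : Set G) := mem_normalizer_of_map_mem fun a ha =>
      mem_subgroupOf.1 ((mem_normalizer_iff.1 hxN ⟨a, hP ha⟩).1 (mem_subgroupOf.2 ha))
    have := hS.max (S ⊔ zpowers (x : G)) (sup_le hS.le (zpowers_le.2 (hN hxN')))
      (P.isPGroup'.to_le (sup_le hP (zpowers_le.2 x.2))) le_sup_left
    exact hxS (mem_subgroupOf.2 (this ▸ mem_sup_right (mem_zpowers (x : G))))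
  have hrank : ∀ E : Subgroup G, ¬ IsKleinFour E := by
    intro E hE
    obtain ⟨Q, hQ⟩ := (IsPGroup.of_card (p := 2) (n := 2) (G := E) hE.card_four).exists_le_sylow
    obtain ⟨g, hg⟩ := MulAction.exists_smul_eq G Q P
    have hsq : ∀ x : E, (x : G) * (x : G) = 1 := fun x => by
      rw [← sq, ← SubgroupClass.coe_pow, ← hE.exponent_two, Monoid.pow_exponent_eq_one, OneMemClass.coe_one]
    have hall : ∀ x : E, (x : G) = 1 ∨ g * (x : G) * g⁻¹ = t := fun x => by
      by_cases hx : (x : G) = 1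
      · exact Or.inl hx
      · have hxP : g * (x : G) * g⁻¹ ∈ S := hPS ▸ hg ▸ ⟨x, hQ x.2, rfl⟩
        exact Or.inr (h.eq_t ht hp hp2 hb hbt (orderOf_eq_prime (by
          rw [sq, show g * (x : G) * g⁻¹ * (g * (x : G) * g⁻¹) = g * ((x : G) * x) * g⁻¹ by group, hsq x,
            mul_one, mul_inv_cancel]) (conj_eq_one_iff.not.2 hx))
          (hSt _ hxP) (hSb _ hxP))
    have hle : Nat.card E ≤ Nat.card ({1, g⁻¹ * t * g} : Set G) := Nat.card_le_card_of_injective
      (fun x => (⟨(x : G), by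
        rcases hall x with e | e
        · simp [e]
        · refine Or.inr ?_; rw [Set.mem_singleton_iff, ← e]; group⟩ : ({1, g⁻¹ * t * g} : Set G)))
      (fun x y h => Subtype.ext (congrArg (fun w : ({1, g⁻¹ * t * g} : Set G) => (w : G)) h))
    rw [hE.card_four, Nat.card_coe_set_eq] at hle
    have := Set.ncard_insert_le 1 ({g⁻¹ * t * g} : Set G)
    rw [Set.ncard_singleton] at this
    omega
  obtain ⟨z, hz, N, hNn, hodd, hzN⟩ := Cfsg.Agent.S0225.result (even_iff_two_dvd.2 h.even_card) hrank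
  have hN1 : N = ⊥ := h.rad N hNn (Cfsg.Agent.S0205.result hodd)
  have hzc : z ∈ center G := mem_center_iff.2 fun g =>
    (mul_inv_eq_iff_eq_mul.1 (mul_inv_eq_one.1 (mem_bot.1 (hN1 ▸ hzN g)))).symm
  refine h.not_isolated (t := z) ⟨hz, fun g _ => ?_⟩
  rw [mem_center_iff.1 hzc g, mul_inv_cancel_right]

include h ht hp hp2 hb hbt in
/-- Every element of odd order of `C(t)` lies in `⟨b⟩`. -/
theorem odd_mem {x : G} (hx : Odd (orderOf x)) (hxt : Commute x t) : x ∈ zpowers b := by
  obtain ⟨S, -, hS⟩ := exists_maxTwo (M := centralizer ({t} : Set G))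
    (isPGroup_zpowers (p := 2) (k := 1) (x := t) (by rw [ht, pow_one]))
    (zpowers_le.2 (mem_centralizer_singleton_iff.2 rfl))
  obtain ⟨-, u, huS, hu, hut, -⟩ := h.exists_u ht hp hp2 hb hbt hS
  have hut' : Commute u t := mem_centralizer_singleton_iff.1 (hS.le huS)
  have hub := h.inverts ht hp hp2 hb hbt hu hut' hut
  set H := zpowers b ⊔ zpowers u with hH
  have hun : zpowers u ≤ normalizer (zpowers b : Set G) := by
    rw [h.norm_b ht hp hp2 hb hbt]; exact zpowers_le.2 (mem_centralizer_singleton_iff.2 hut')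
  have hHmem : ∀ y ∈ H, y ∈ zpowers b ∨ y * y = 1 := by
    intro y hy
    rw [hH, sup_comm, ← SetLike.mem_coe, coe_mul_of_left_le_normalizer_right _ _ hun] at hy
    obtain ⟨c, hc, d, hd, rfl⟩ := hy
    obtain ⟨j, rfl⟩ := mem_zpowers_iff.1 hc
    obtain ⟨i, rfl⟩ := mem_zpowers_iff.1 hd
    have hu2 : u ^ (2 : ℤ) = 1 := by rw [zpow_two]; exact sq_eq_one_of_two hu
    rcases Int.even_or_odd' j with ⟨k, rfl | rfl⟩
    · left
      show u ^ (2 * k) * b ^ i ∈ zpowers b
      rw [zpow_mul, hu2, one_zpow, one_mul]; exact zpow_mem (mem_zpowers b) i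
    · right
      show u ^ (2 * k + 1) * b ^ i * (u ^ (2 * k + 1) * b ^ i) = 1
      rw [zpow_add, zpow_mul, hu2, one_zpow, zpow_one, one_mul]
      have e : u * b ^ i * u⁻¹ = (b ^ i)⁻¹ := by rw [← conj_zpow, hub, inv_zpow]
      calc u * b ^ i * (u * b ^ i) = (u * b ^ i * u⁻¹) * (u * u) * b ^ i := by group
        _ = 1 := by rw [e, sq_eq_one_of_two hu, mul_one, inv_mul_cancel]
  have hHb : normalizer (H : Set G) ≤ normalizer (zpowers b : Set G) := by
    intro g hg
    refine Transfer.NormCyc.mem_normalizer_zpowers ?_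
    rcases hHmem _ ((mem_normalizer_iff.1 hg b).1 (mem_sup_left (mem_zpowers b))) with e | e
    · exact e
    · have h1 := orderOf_dvd_of_pow_eq_one ((sq _).trans e)
      rw [show orderOf (g * b * g⁻¹) = p by
        rw [← hb]; exact orderOf_injective (MulAut.conj g).toMonoidHom (MulAut.conj g).injective b] at h1
      exact absurd ((Nat.prime_dvd_prime_iff_eq hp Nat.prime_two).1 h1) hp2
  have hb1 : zpowers b ≠ ⊥ := zpowers_ne_bot' (ne_one_of_orderOf hp.ne_one hb)
  have hH1 : H ≠ ⊥ := ne_bot_of_le_ne_bot hb1 le_sup_left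
  have hH2 : TwoPr H := by
    refine twoPr_of_dvd Nat.prime_two hp (a := 1) (b := 1) ?_
    rw [hH, sup_comm]
    refine (Grp.card_sup_dvd_mul hun).trans ?_
    rw [Nat.card_zpowers, Nat.card_zpowers, hu, hb, pow_one, pow_one]
  have hHM : normalizer (H : Set G) = centralizer ({t} : Set G) := by
    rw [h.norm_eq hH1 hH2 hb1 (twoPr_pGroup hp (isPGroup_zpowers (k := 1) (by rw [hb, pow_one]))) hHb,
      h.norm_b ht hp hp2 hb hbt]
  -- elements of prime power order
  have hpp : ∀ (q k : ℕ) (y : G), q.Prime → q ≠ 2 → orderOf y = q ^ k → Commute y t → y ∈ zpowers b := by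
    intro q k y hq hq2 hy hyt
    rcases eq_or_ne y 1 with rfl | hy1
    · exact one_mem _
    have hNy := h.norm_odd ht hq hq2 (isPGroup_zpowers hy) (zpowers_ne_bot' hy1)
      (zpowers_le.2 (mem_centralizer_singleton_iff.2 hyt))
    have hc : u * y * u⁻¹ ∈ zpowers y :=
      (mem_normalizer_iff.1 (hNy.symm ▸ mem_centralizer_singleton_iff.2 hut') y).1 (mem_zpowers y)
    have hcy : Commute (u * y * u⁻¹) y := by
      obtain ⟨i, hi⟩ := mem_zpowers_iff.1 hc
      rw [← hi]; exact Commute.zpow_self y i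
    have hfix : Commute u (u * y * u⁻¹ * y) := by
      refine mul_inv_eq_iff_eq_mul.1 ?_
      rw [hcy.eq]
      conv_rhs => rw [← hcy.eq]
      rw [inv_eq_self_of_two hu]
      calc u * (y * (u * y * u)) * u = u * y * u * y * (u * u) := by simp only [mul_assoc]
        _ = _ := by rw [sq_eq_one_of_two hu, mul_one]
    have huy : u * y * u⁻¹ = y⁻¹ := by
      refine eq_inv_of_mul_eq_one_left (by_contra fun hd => hut ?_)
      obtain ⟨i, hi⟩ := (Nat.dvd_prime_pow hq).1
        (hy ▸ orderOf_dvd_of_mem_zpowers (mul_mem hc (mem_zpowers y)))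
      have hi0 : i ≠ 0 := fun e => hd (orderOf_eq_one_iff.1 (by rw [hi.2, e, pow_zero]))
      have ho : orderOf ((u * y * u⁻¹ * y) ^ (q ^ (i - 1))) = q := by
        rw [orderOf_pow_of_dvd (pow_ne_zero _ hq.ne_zero) (hi.2 ▸ pow_dvd_pow q (Nat.sub_le i 1)), hi.2,
          Nat.pow_div (Nat.sub_le i 1) hq.pos, show i - (i - 1) = 1 by omega, pow_one]
      refine h.eq_t ht hq hq2 ho ?_ hu hut' (hfix.pow_right _)
      refine Commute.pow_left (Commute.mul_left ?_ hyt) _
      obtain ⟨j, hj⟩ := mem_zpowers_iff.1 hc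
      rw [← hj]; exact hyt.zpow_left j
    have hxH : y * u * y⁻¹ ∈ H :=
      (mem_normalizer_iff.1 (hHM.symm ▸ mem_centralizer_singleton_iff.2 hyt) u).1 (mem_sup_right (mem_zpowers u))
    have hy2 : y ^ 2 ∈ H := by
      have h1 := mul_mem hxH (inv_mem (mem_sup_right (mem_zpowers u) : u ∈ H))
      rw [show y * u * y⁻¹ * u⁻¹ = y * (u * y⁻¹ * u⁻¹) by group,
        show u * y⁻¹ * u⁻¹ = (u * y * u⁻¹)⁻¹ by group, huy, inv_inv, ← sq] at h1
      exact h1
    have hodd : Odd (orderOf y) := hy ▸ (hq.odd_of_ne_two hq2).pow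
    have hyz : y ∈ zpowers (y ^ 2) := by
      obtain ⟨m, hm⟩ := exists_pow_eq_self_of_coprime (x := y) (n := 2) (Nat.coprime_two_left.2 hodd)
      exact ⟨(m : ℤ), (zpow_natCast (y ^ 2) m).trans hm⟩
    rcases hHmem _ hy2 with e | e
    · exact zpowers_le.2 e hyz
    · exfalso
      refine hy1 (orderOf_eq_one_iff.1 (Nat.eq_one_of_dvd_coprimes (Nat.coprime_two_left.2 hodd |>.pow_left 2)
        (orderOf_dvd_of_pow_eq_one ?_) dvd_rfl))
      rw [pow_two (2 : ℕ), pow_mul, sq]; exact e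
  -- the general case
  obtain ⟨k, hk⟩ : ∃ k, orderOf x = p ^ k := by
    refine ⟨_, Nat.eq_prime_pow_of_unique_prime_dvd (orderOf_pos x).ne' fun {q} hq hqd => ?_⟩
    have hq2 : q ≠ 2 := fun e => Nat.not_even_iff_odd.2 hx (even_iff_two_dvd.2 (e ▸ hqd))
    have ho : orderOf (x ^ (orderOf x / q)) = q := orderOf_pow_orderOf_div (orderOf_pos x).ne' hqd
    have := orderOf_dvd_of_mem_zpowers (hpp q 1 _ hq hq2 (by rw [ho, pow_one]) (hxt.pow_left _))
    rw [ho, hb] at this
    exact (Nat.prime_dvd_prime_iff_eq hq hp).1 this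
  exact hpp p k x hp hp2 hk hxt

end MN

end Cfsg.Agent.Invol.MaxNorm
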