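import Cfsg.Agent.Lib.Invol.L34Parabolic
import Cfsg.Agent.Lib.Invol.MaxNorm.Basic
import Cfsg.Agent.Lib.Lie.Sz.Sylow
import Cfsg.Agent.Lib.Transfer.SizesPSL.PSLFacts
import Cfsg.Agent.Lib.Grp.PrimeGraphCIT.Basic
import Cfsg.Agent.Lib.Grp.ThreeOrders.SocleFacts

/-!
# Groups with self-normalising Sylow 2-subgroups, and `A₇` (for S4233)
-/

set_option autoImplicit false
set_option linter.style.haveILetI false

namespace Cfsg.Agent.Invol.MaxNorm

open Subgroup

universe u v

/-- Every Sylow 2-subgroup is its own normaliser. -/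
def SelfNorm (X : Type u) [Group X] : Prop :=
  ∀ S : Sylow 2 X, normalizer ((S : Subgroup X) : Set X) ≤ (S : Subgroup X)

theorem SelfNorm.congr {X : Type u} [Group X] [Finite X] {Y : Type v} [Group Y] [Finite Y] (hX : SelfNorm X)
    (e : X ≃* Y) : SelfNorm Y := by
  haveI := Fact.mk Nat.prime_two
  intro S y hy
  have hs : Function.Surjective e.symm.toMonoidHom := e.symm.surjective
  have h1 := hX (S.mapSurjective hs)
  rw [Sylow.coe_mapSurjective] at h1
  obtain ⟨s, hs', e'⟩ := h1 (le_normalizer_map e.symm.toMonoidHom ⟨y, hy, rfl⟩)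
  exact e.symm.injective e' ▸ hs'

/-- A simple group with abelian self-normalising Sylow 2-subgroups is abelian. -/
theorem not_selfNorm_of_comm {X : Type u} [Group X] [Finite X] [IsSimpleGroup X] (hX : ¬ Group.IsSolvable X)
    (S : Sylow 2 X) (hS : IsMulCommutative (S : Subgroup X)) : ¬ SelfNorm X := by
  haveI := Fact.mk Nat.prime_two
  intro h
  have hP : normalizer ((S : Subgroup X) : Set X) ≤ centralizer ((S : Subgroup X) : Set X) := fun x hx =>
    mem_centralizer_iff.2 fun y hy => congrArg Subtype.val (hS.is_comm.comm ⟨y, hy⟩ ⟨x, h S hx⟩)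
  have hc := MonoidHom.ker_transferSylow_isComplement' S hP
  rcases (MonoidHom.normal_ker (MonoidHom.transferSylow S hP)).eq_bot_or_eq_top with e | e
  · rw [e, isComplement'_bot_left] at hc
    haveI := S.isPGroup'.isNilpotent
    exact hX (Group.isSolvable_of_surjective
      (f := ((MulEquiv.subgroupCongr hc).trans topEquiv).toMonoidHom) (MulEquiv.surjective _))
  · rw [e, isComplement'_top_left] at hc
    have hd : 2 ∣ Nat.card X :=
      even_iff_two_dvd.1 (Nat.not_odd_iff_even.1 fun ho => hX (Cfsg.Agent.S0205.result ho))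
    exact S.ne_bot_of_dvd_card hd hc

/-- The Suzuki groups have larger Borel subgroups. -/
theorem not_selfNorm_suzuki {F : Type} [Field F] [Fintype F] {m : ℕ} (hS : Suz.SzField F m) :
    ¬ SelfNorm ↥(Cfsg.Sz F m) := by
  intro h
  have h1 := h (Suz.sylowU hS)
  rw [Suz.coe_sylowU, Suz.normalizer_unip] at h1
  have h2 : Suz.borel m F = Suz.unip hS := le_antisymm h1 (by
    rw [← Suz.normalizer_unip hS]; exact le_normalizer)
  have h3 := (Suz.unip hS).card_mul_index
  rw [Suz.card_unip, Suz.card_Sz hS] at h3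
  rw [← h2, Suz.index_borel hS] at h3
  have hm := hS.1
  have hq : 4 ≤ 2 ^ (2 * m + 1) := by
    calc 4 = 2 ^ 2 := rfl
      _ ≤ _ := Nat.pow_le_pow_right two_pos (by omega)
  generalize 2 ^ (2 * m + 1) = q at h3 hq
  have hpos : 0 < q ^ 2 * (q ^ 2 + 1) := by positivity
  have := Nat.eq_of_mul_eq_mul_left hpos
    (show q ^ 2 * (q ^ 2 + 1) * 1 = q ^ 2 * (q ^ 2 + 1) * (q - 1) by rw [mul_one]; exact h3)
  omega

section L34

open Cfsg.Agent.Spor Cfsg.Agent.Spor.SU32

local notation "S34" => Matrix.SpecialLinearGroup (Fin 3) F4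
local notation "PS" => Matrix.ProjectiveSpecialLinearGroup (Fin 3) F4

/-- An element of order three of the diagonal. -/
def torus3 : S34 := ⟨!![F4.w, 0, 0; 0, 1, 0; 0, 0, F4.v], by decide +kernel⟩

theorem torus3_uni : ∀ a c b : F4, torus3 * L34Par.uni a c b =
    L34Par.uni (F4.w * a) (F4.w * c) (F4.v * b) * torus3 := by decide +kernel

theorem torus3_cube : torus3 ^ 3 = 1 := by decide +kernel

theorem torus3_not_scalar : ∀ r : F4, (torus3 : Matrix (Fin 3) (Fin 3) F4) ≠
    r • (1 : Matrix (Fin 3) (Fin 3) F4) := by decide +kernel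

/-- `PSL(3,4)` has a larger Sylow normaliser. -/
theorem not_selfNorm_l34 : ¬ SelfNorm PS := by
  haveI := Fact.mk Nat.prime_two
  intro h
  obtain ⟨P, hP⟩ := L34Par.exists_U0_sylow
  have hN : L34Elem.π torus3 ∈ normalizer ((L34Par.U0 : Subgroup PS) : Set PS) := by
    refine mem_normalizer_of_map_mem ?_
    rintro _ ⟨a, c, b, rfl⟩
    refine ⟨F4.w * a, F4.w * c, F4.v * b, ?_⟩
    rw [eq_mul_inv_iff_mul_eq, ← map_mul, ← map_mul, torus3_uni]
  have h1 := h P (hP ▸ hN)
  have h2 : L34Elem.π torus3 = 1 := by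
    obtain ⟨k, hk⟩ := P.isPGroup' ⟨_, h1⟩
    refine orderOf_eq_one_iff.1 (Nat.eq_one_of_dvd_coprimes (a := 3) (b := 2 ^ k)
      (Nat.Coprime.pow_right k (by norm_num)) (orderOf_dvd_of_pow_eq_one ?_)
      (orderOf_dvd_of_pow_eq_one (congrArg Subtype.val hk)))
    rw [← map_pow, torus3_cube, map_one]
  obtain ⟨r, -, hr⟩ := L34Elem.center_scalar (L34Elem.π_eq_one.1 h2)
  exact torus3_not_scalar r hr

end L34

section Seven

open Equiv

local notation "A7" => alternatingGroup (Fin 7)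

/-- `(12)(34)`. -/
def sevX : A7 := ⟨swap 0 1 * swap 2 3, Perm.mem_alternatingGroup.2 (by decide +kernel)⟩

/-- `(567)`. -/
def sevY : A7 := ⟨swap 4 5 * swap 5 6, Perm.mem_alternatingGroup.2 (by decide +kernel)⟩

/-- `(1324)(56)`. -/
def sevF : A7 := ⟨swap 0 3 * swap 0 1 * swap 0 2 * swap 4 5, Perm.mem_alternatingGroup.2 (by decide +kernel)⟩

/-- `(12)(56)`. -/
def sevS : A7 := ⟨swap 0 1 * swap 4 5, Perm.mem_alternatingGroup.2 (by decide +kernel)⟩

theorem sev_facts : sevX ^ 2 = 1 ∧ sevX ≠ 1 ∧ sevY ^ 3 = 1 ∧ sevY ≠ 1 ∧ sevY * sevX = sevX * sevY ∧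
    sevF * sevS ≠ sevS * sevF := by decide +kernel

/-- The dihedral subgroup of the centralizer. -/
def sevHom : DihedralGroup 4 →* A7 :=
  MonoidHom.mk' (fun d => match d with
    | .r i => sevF ^ i.val
    | .sr i => sevS * sevF ^ i.val) (by decide +kernel)

theorem sevHom_comm : ∀ d : DihedralGroup 4, sevHom d * sevX = sevX * sevHom d := by decide +kernel

end Seven

end Cfsg.Agent.Invol.MaxNorm
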