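import Cfsg.Agent.Lib.Invol.MaxNorm.Thirteen
import Cfsg.Agent.Lib.Grp.Hall

/-!
# Maximal normalisers: passing to the quotient by the solvable radical (for S4233)
-/

set_option autoImplicit false
set_option linter.style.haveILetI false

namespace Cfsg.Agent.Invol.MaxNorm

open Subgroup

universe u

variable {G : Type u} [Group G] [Finite G]

omit [Finite G] in
theorem isSolvable_comap_mk {R : Subgroup G} [R.Normal] (hR : Group.IsSolvable R) {A : Subgroup (G ⧸ R)}
    (hA : Group.IsSolvable A) : Group.IsSolvable (A.comap (QuotientGroup.mk' R)) := by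
  haveI := hR
  haveI := hA
  have hle : R ≤ A.comap (QuotientGroup.mk' R) := fun x hx => by
    rw [mem_comap, show QuotientGroup.mk' R x = 1 from (QuotientGroup.eq_one_iff x).2 hx]
    exact one_mem A
  exact Group.isSolvable_of_ker_le_range (inclusion hle) ((QuotientGroup.mk' R).subgroupComap A)
    fun x hx => ⟨⟨x, (QuotientGroup.eq_one_iff (x : G)).1 (congrArg Subtype.val hx)⟩, rfl⟩

/-- The solvable radical. -/
theorem exists_radical : ∃ R : Subgroup G, R.Normal ∧ Group.IsSolvable R ∧
    ∀ N : Subgroup G, N.Normal → Group.IsSolvable N → N ≤ R := by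
  obtain ⟨R, hR⟩ := (Set.toFinite {N : Subgroup G | N.Normal ∧ Group.IsSolvable N}).exists_maximal
    ⟨⊥, normal_bot, Group.isSolvable_of_comm fun a b => Subsingleton.elim _ _⟩
  obtain ⟨hRn, hRs⟩ := hR.1
  refine ⟨R, hRn, hRs, fun N hN hNs => ?_⟩
  haveI := hRn
  haveI := hN
  have hs : Group.IsSolvable ↥(N ⊔ R) := by
    refine Invol.GW.isSolvable_of_le ?_ (isSolvable_comap_mk hRs (Grp.isSolvable_map hNs (QuotientGroup.mk' R)))
    rw [comap_map_eq, QuotientGroup.ker_mk']
  exact le_sup_left.trans (hR.2 (show (N ⊔ R).Normal ∧ _ from ⟨inferInstance, hs⟩) le_sup_right)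

/-- A solvable subnormal subgroup is trivial when the radical is. -/
theorem subnormal_eq_bot_of_rad (hrad : ∀ N : Subgroup G, N.Normal → Group.IsSolvable N → N = ⊥)
    {R : Subgroup G} (hR : R.IsSubnormal) (hs : Group.IsSolvable R) : R = ⊥ := by
  have hF : Cfsg.fittingSubgroup G = ⊥ := by
    haveI := Grp.fittingSubgroup_isNilpotent (G := G)
    exact hrad _ Grp.fittingSubgroup_isNormal inferInstance
  refine le_bot_iff.1 (hF ▸ Grp.solvable_subnormal_le_fitting (Nat.card R) R rfl hR hs ?_)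
  rw [hF]
  exact fun x _ => mem_centralizer_iff.2 fun y hy => by
    rw [SetLike.mem_coe, mem_bot] at hy; rw [hy, one_mul, mul_one]

theorem exists_pi_split {n : ℕ} (hn : n ≠ 0) {p q : ℕ} (hp : p.Prime) (hq : q.Prime) :
    ∃ m i : ℕ, n = m * i ∧ m.Coprime i ∧ (∀ r : ℕ, r.Prime → r ∣ m → r = p ∨ r = q) ∧ ¬ p ∣ i ∧ ¬ q ∣ i := by
  obtain ⟨a, n', hn', rfl⟩ := Nat.exists_eq_pow_mul_and_not_dvd hn p hp.ne_one
  obtain ⟨b, i, hi, rfl⟩ := Nat.exists_eq_pow_mul_and_not_dvd (n := n') (fun e => hn' (by rw [e]; exact dvd_zero p)) q hq.ne_one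
  have hpi : ¬ p ∣ i := fun e => hn' (e.mul_left _)
  refine ⟨p ^ a * q ^ b, i, (mul_assoc _ _ _).symm, ?_, fun r hr hd => ?_, hpi, hi⟩
  · exact Nat.Coprime.mul_left (((Nat.Prime.coprime_iff_not_dvd hp).2 hpi).pow_left a)
      (((Nat.Prime.coprime_iff_not_dvd hq).2 hi).pow_left b)
  · exact ((hr.dvd_mul).1 hd).imp (fun h => (Nat.prime_dvd_prime_iff_eq hr hp).1 (hr.dvd_of_dvd_pow h))
      fun h => (Nat.prime_dvd_prime_iff_eq hr hq).1 (hr.dvd_of_dvd_pow h)

/-- The hypothesis of S4233. -/
def Hyp (G : Type u) [Group G] : Prop :=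
  ∀ H : Subgroup G, ¬ H.IsSubnormal → TwoPr H → IsCoatom (normalizer (H : Set G))

variable (h : Hyp G) {R : Subgroup G} [R.Normal] (hRs : Group.IsSolvable R)
  (hRmax : ∀ N : Subgroup G, N.Normal → Group.IsSolvable N → N ≤ R)
include hRs hRmax

omit [Finite G] in
theorem rad_quotient (N : Subgroup (G ⧸ R)) (hN : N.Normal) (hs : Group.IsSolvable N) : N = ⊥ := by
  refine eq_bot_iff.2 fun x hx => ?_
  obtain ⟨g, rfl⟩ := QuotientGroup.mk'_surjective R x
  rw [mem_bot, QuotientGroup.mk'_apply, QuotientGroup.eq_one_iff]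
  exact hRmax _ (hN.comap _) (isSolvable_comap_mk hRs hs) hx

include h

/-- The normaliser of a subgroup with at most two primes outside the radical is the full preimage. -/
theorem normalizer_eq_comap {H : Subgroup G} (hH : TwoPr H) (hHR : ¬ H ≤ R) :
    normalizer (H : Set G) =
      (normalizer ((H.map (QuotientGroup.mk' R) : Subgroup (G ⧸ R)) : Set (G ⧸ R))).comap (QuotientGroup.mk' R) ∧
    IsCoatom (normalizer (H : Set G)) := by
  have hne : H.map (QuotientGroup.mk' R) ≠ ⊥ := by
    rw [Ne, Subgroup.map_eq_bot_iff, QuotientGroup.ker_mk']; exact hHR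
  have hs : Group.IsSolvable (H.map (QuotientGroup.mk' R)) := Grp.isSolvable_map (isSolvable_twoPr hH) _
  have hsn : ¬ H.IsSubnormal := fun e => hne
    (subnormal_eq_bot_of_rad (rad_quotient hRs hRmax) (e.map (QuotientGroup.mk'_surjective R)) hs)
  have hco := h H hsn hH
  refine ⟨?_, hco⟩
  have hle : normalizer (H : Set G) ≤
      (normalizer ((H.map (QuotientGroup.mk' R) : Subgroup (G ⧸ R)) : Set (G ⧸ R))).comap (QuotientGroup.mk' R) :=
    fun g hg => mem_comap.2 (le_normalizer_map _ ⟨g, hg, rfl⟩)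
  refine (((hco.le_iff).1 hle).resolve_left fun e => hne ?_).symm
  refine rad_quotient hRs hRmax _ (normalizer_eq_top_iff.1 ?_) hs
  refine comap_injective (QuotientGroup.mk'_surjective R) ?_
  rw [e, comap_top]

/-- The quotient by the radical has trivial radical and inherits the hypothesis. -/
theorem mn_quotient (hns : ¬ Group.IsSolvable G) : MN (G ⧸ R) where
  ns := fun hs => hns ((Group.isSolvable_iff_subgroup_quotient R).2 ⟨hRs, hs⟩)
  rad := rad_quotient hRs hRmax
  coatom := by
    intro A hA1 hAs hA2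
    obtain ⟨p, q, hp, hq, hpq⟩ := hA2
    set π := QuotientGroup.mk' R with hπ
    set X := A.comap π with hX
    haveI := isSolvable_comap_mk hRs hAs
    obtain ⟨m, i, hmi, hcop, hm, hpi, hqi⟩ := exists_pi_split (Nat.card_pos (α := X)).ne' hp hq
    obtain ⟨H₀, hH₀⟩ := Grp.exists_hall hmi hcop
    set H := H₀.map X.subtype with hH
    have hHc : Nat.card H = m := by rw [hH, card_map_of_injective X.subtype_injective, hH₀]
    have hH2 : TwoPr H := ⟨p, q, hp, hq, fun r hr hd => hm r hr (hHc ▸ hd)⟩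
    have hmap : H.map π = A := by
      let f : X →* A := π.subgroupComap A
      have hf : Function.Surjective f := fun a => by
        obtain ⟨g, hg⟩ := QuotientGroup.mk'_surjective R (a : G ⧸ R)
        exact ⟨⟨g, by rw [hX, mem_comap, hπ, hg]; exact a.2⟩, Subtype.ext hg⟩
      have h1 : (H₀.map f).index ∣ i := by
        have := H₀.card_mul_index
        rw [hH₀, hmi] at this
        rw [← Nat.eq_of_mul_eq_mul_left (hH₀ ▸ Nat.card_pos) this]
        exact index_map_dvd H₀ hf
      have h2 : (H₀.map f).index = 1 := by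
        by_contra hne
        obtain ⟨r, hr, hrd⟩ := Nat.exists_prime_and_dvd hne
        rcases hpq r hr (hrd.trans (index_dvd_card _)) with rfl | rfl
        · exact hpi (hrd.trans h1)
        · exact hqi (hrd.trans h1)
      refine le_antisymm ?_ fun a ha => ?_
      · rintro _ ⟨_, ⟨x, -, rfl⟩, rfl⟩
        exact x.2
      · obtain ⟨x, hx, e⟩ := (index_eq_one.1 h2).symm ▸ mem_top (⟨a, ha⟩ : A)
        exact ⟨(x : G), ⟨x, hx, rfl⟩, congrArg Subtype.val e⟩
    obtain ⟨he, hco⟩ := normalizer_eq_comap h hRs hRmax hH2 (fun hle => hA1 (hmap ▸ by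
      rw [Subgroup.map_eq_bot_iff, hπ, QuotientGroup.ker_mk']; exact hle))
    rw [he, hmap] at hco
    refine ⟨fun e => hco.1 (by rw [e]; exact comap_top _), fun B hB => ?_⟩
    have := hco.2 (B.comap π) ((comap_lt_comap_of_surjective (QuotientGroup.mk'_surjective R)).2 hB)
    exact comap_injective (QuotientGroup.mk'_surjective R) (this.trans (comap_top _).symm)

end Cfsg.Agent.Invol.MaxNorm
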