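import Cfsg.Agent.Lib.Invol.MaxNorm.Swap
import Cfsg.Agent.Lib.Invol.MaxNorm.Models
import Cfsg.Agent.Lib.Invol.GW.Consumers.AbelianSylow
import Cfsg.Agent.Lib.Recog.SU3Sylow
import Cfsg.Agent.Lib.Grp.SuzIdent.CIT
import Cfsg.Agent.S0483

/-!
# Maximal normalisers: the socle is some `PSL(2,q)`, `q` odd (for S4233)
-/

set_option autoImplicit false
set_option linter.style.haveILetI false

namespace Cfsg.Agent.Invol.MaxNorm

open Subgroup
open scoped Pointwise

universe u

variable {G : Type u} [Group G] [Finite G]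

/-- The properties of the simple socle. -/
def IsSocle (M : Subgroup G) : Prop :=
  M.Normal ∧ IsSimpleGroup M ∧ ¬ IsMulCommutative M ∧ centralizer (M : Set G) = ⊥

namespace MN

variable (h : MN G)
include h

theorem solvable_cent {t : G} (ht : orderOf t = 2) : Group.IsSolvable (centralizer ({t} : Set G)) := by
  rcases cit_or_mixed ht with hc | ⟨b, p, m⟩
  · haveI := Fact.mk Nat.prime_two
    haveI := hc.isNilpotent
    infer_instance
  · refine isSolvable_twoPr ⟨2, p, Nat.prime_two, m.hp, fun r hr hd => ?_⟩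
    haveI := Fact.mk hr
    obtain ⟨x, hx⟩ := exists_prime_orderOf_dvd_card' r hd
    by_cases hr2 : r = 2
    · exact Or.inl hr2
    · have hmem := h.odd_mem m.ht m.hp m.hp2 m.hb m.comm (x := (x : G))
        (by rw [Subgroup.orderOf_coe, hx]; exact hr.odd_of_ne_two hr2) (mem_centralizer_singleton_iff.1 x.2)
      have := orderOf_dvd_of_mem_zpowers hmem
      rw [Subgroup.orderOf_coe, hx, m.hb] at this
      exact Or.inr ((Nat.prime_dvd_prime_iff_eq hr m.hp).1 this)

theorem exists_socle : ∃ M : Subgroup G, IsSocle M :=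
  GW.exists_simple_socle h.ns h.rad fun _ ht => h.solvable_cent ht

/-- Two-subgroups of mixed centralizers commute. -/
theorem mixed_comm {t b : G} {p : ℕ} (m : Mixed t b p) {A : Subgroup G} (hA : IsPGroup 2 A)
    (hAt : A ≤ centralizer ({t} : Set G)) : Comm A := by
  haveI := Fact.mk Nat.prime_two
  obtain ⟨S, -, hS⟩ := exists_maxTwo (M := centralizer ({t} : Set G)) hA hAt
  obtain ⟨g, -, hg⟩ := card_le_maxTwo hS hA hAt
  obtain ⟨T, hST⟩ := hS.isP.exists_le_sylow
  refine comm_conj g ?_ hg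
  rcases eq_or_ne (T : Subgroup G) S with e | e
  · exact (h.case_top m hS T e).1
  · exact (h.case_swap m hS T hST e).1

/-- The Sylow 2-subgroups in the presence of a mixed involution. -/
theorem sylow_cases {t b : G} {p : ℕ} (m : Mixed t b p) :
    (∀ T : Sylow 2 G, (Comm (T : Subgroup G) ∧ Nat.card (T : Subgroup G) ≠ 8) ∨
      (Nat.card (T : Subgroup G) = 8 ∧ ¬ Comm (T : Subgroup G))) ∧ Cfsg.PRankLE 2 2 G := by
  haveI := Fact.mk Nat.prime_two
  obtain ⟨S, -, hS⟩ := exists_maxTwo (M := centralizer ({t} : Set G))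
    (isPGroup_zpowers (p := 2) (k := 1) (x := t) (by rw [m.ht, pow_one]))
    (zpowers_le.2 (mem_centralizer_singleton_iff.2 rfl))
  obtain ⟨T₀, hST⟩ := hS.isP.exists_le_sylow
  have h0 : (Comm S ∧ Nat.card (T₀ : Subgroup G) ≠ 8 ∧ (T₀ : Subgroup G) = S) ∨
      (Nat.card (T₀ : Subgroup G) = 8 ∧ ¬ Comm (T₀ : Subgroup G)) := by
    rcases eq_or_ne (T₀ : Subgroup G) S with e | e
    · exact Or.inl ⟨(h.case_top m hS T₀ e).1, (h.case_top m hS T₀ e).2, e⟩
    · exact Or.inr ⟨(h.case_swap m hS T₀ hST e).2.1, (h.case_swap m hS T₀ hST e).2.2⟩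
  have hconj : ∀ T T' : Sylow 2 G, ∃ g : G, ∀ a ∈ (T : Subgroup G), g * a * g⁻¹ ∈ (T' : Subgroup G) := by
    intro T T'
    obtain ⟨g, hg⟩ := MulAction.exists_smul_eq G T T'
    exact ⟨g, fun a ha => hg ▸ ⟨a, ha, rfl⟩⟩
  have hcard : ∀ T T' : Sylow 2 G, Nat.card (T : Subgroup G) = Nat.card (T' : Subgroup G) := fun T T' => by
    rw [Sylow.card_eq_multiplicity, Sylow.card_eq_multiplicity]
  refine ⟨fun T => ?_, ?_⟩
  · rcases h0 with ⟨hc, h8, e⟩ | ⟨h8, hc⟩
    · obtain ⟨g, hg⟩ := hconj T T₀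
      exact Or.inl ⟨comm_conj g (e.symm ▸ hc) hg, hcard T T₀ ▸ h8⟩
    · obtain ⟨g, hg⟩ := hconj T₀ T
      exact Or.inr ⟨(hcard T T₀).trans h8, fun hT => hc (comm_conj g hT hg)⟩
  intro A hA hA2
  have hAp : IsPGroup 2 A := fun a => ⟨1, Subtype.ext (by
    rw [SubgroupClass.coe_pow, pow_one]; exact hA2 _ a.2)⟩
  obtain ⟨T, hT⟩ := hAp.exists_le_sylow
  rcases h0 with ⟨-, -, e⟩ | ⟨h8, hc⟩
  · obtain ⟨g, hg⟩ := hconj T T₀
    obtain ⟨htS, v, hv, hv2, hvt, hvc⟩ := h.exists_u m.ht m.hp m.hp2 m.hb m.comm hS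
    classical
    have hall : ∀ a : A, g * (a : G) * g⁻¹ ∈ ({1, t, v, t * v} : Finset G) := fun a => by
      have hsq : g * (a : G) * g⁻¹ * (g * (a : G) * g⁻¹) = 1 := by
        rw [← sq, conj_pow, hA2 _ a.2, mul_one, mul_inv_cancel]
      rcases h.invol_mem m hS hv hv2 hvt hvc (e ▸ hg _ (hT a.2)) hsq with e | e | e | e <;> simp [e]
    refine le_trans (Nat.card_le_card_of_injective (fun a => (⟨_, hall a⟩ : ({1, t, v, t * v} : Finset G)))
      fun a c e => Subtype.ext (mul_left_cancel (mul_right_cancel (congrArg Subtype.val e)))) ?_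
    rw [Nat.card_eq_fintype_card, Fintype.card_coe]
    exact Finset.card_le_four
  · have h1 : Nat.card A ∣ 2 ^ 3 := by
      rw [show 2 ^ 3 = Nat.card (T : Subgroup G) by rw [hcard T T₀, h8]; rfl]
      exact card_dvd_of_le hT
    obtain ⟨k, hk, hk'⟩ := (Nat.dvd_prime_pow Nat.prime_two).1 h1
    rcases Nat.lt_or_ge k 3 with hk3 | hk3
    · rw [hk']; exact Nat.pow_le_pow_right two_pos (by omega)
    · exfalso
      obtain rfl : k = 3 := by omega
      obtain ⟨g, hg⟩ := hconj T₀ T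
      have hAT : A = (T : Subgroup G) := eq_of_le_of_card_ge hT (by rw [hk', hcard T T₀, h8]; norm_num)
      refine hc (comm_conj g (fun x hx y hy => ?_) hg)
      rw [← hAT] at hx hy
      exact congrArg Subtype.val (hA.is_comm.comm ⟨x, hx⟩ ⟨y, hy⟩)

/-- If all involutions have 2-group centralizers then Sylow 2-subgroups of normal subgroups are
self-normalising. -/
theorem selfNorm_of_cit (hcit : ∀ t : G, orderOf t = 2 → IsPGroup 2 (centralizer ({t} : Set G)))
    {M : Subgroup G} (hMn : M.Normal) (heven : 2 ∣ Nat.card M) : SelfNorm M := by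
  haveI := Fact.mk Nat.prime_two
  haveI := hMn
  intro S
  obtain ⟨T, hT⟩ := (S.isPGroup'.map M.subtype).exists_le_sylow
  set S' := (S : Subgroup M).map M.subtype with hS'
  have hS1 : S' ≠ ⊥ := by
    rw [hS', Ne, map_eq_bot_iff_of_injective _ M.subtype_injective]
    exact S.ne_bot_of_dvd_card heven
  have hT1 : (T : Subgroup G) ≠ ⊥ := ne_bot_of_le_ne_bot hS1 hT
  obtain ⟨z, -, hz2, hzc⟩ := exists_central_invol T.isPGroup' hT1
  have hCT : centralizer ({z} : Set G) = (T : Subgroup G) :=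
    T.3 (hcit z hz2) fun x hx => mem_centralizer_singleton_iff.2 (hzc x hx)
  have hTM : (T : Subgroup G).subgroupOf M = (S : Subgroup M) :=
    S.3 (T.isPGroup'.comap_of_injective M.subtype M.subtype_injective) fun x hx => hT ⟨x, hx, rfl⟩
  have hle : (T : Subgroup G) ≤ normalizer (S' : Set G) := fun g hg => mem_normalizer_of_map_mem fun a ha => by
    obtain ⟨x, hx, rfl⟩ := ha
    refine ⟨⟨g * x * g⁻¹, hMn.conj_mem _ x.2 g⟩, ?_, rfl⟩
    rw [SetLike.mem_coe, ← hTM, mem_subgroupOf]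
    exact mul_mem (mul_mem hg (hT ⟨x, hx, rfl⟩)) (inv_mem hg)
  have hco := h.coatom_centralizer hz2
  rw [hCT] at hco
  have hN : normalizer (S' : Set G) = (T : Subgroup G) := by
    refine ((hco.le_iff).1 hle).resolve_left (h.normalizer_ne_top hS1 ?_)
    haveI := (S.isPGroup'.map M.subtype).isNilpotent
    infer_instance
  intro m hm
  have h1 : (m : G) ∈ normalizer (S' : Set G) :=
    le_normalizer_map M.subtype ⟨m, hm, rfl⟩
  rw [hN] at h1
  exact hTM ▸ h1

/-- No socle is `A₇`. -/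
theorem not_seven {M : Subgroup G} (e : M ≃* alternatingGroup (Fin 7)) : False := by
  haveI := Fact.mk Nat.prime_two
  obtain ⟨hx2, hx1, hy3, hy1, hyx, hfs⟩ := sev_facts
  set φ : alternatingGroup (Fin 7) →* G := M.subtype.comp e.symm.toMonoidHom with hφ
  have hinj : Function.Injective φ := M.subtype_injective.comp e.symm.injective
  have ht : orderOf (φ sevX) = 2 := by rw [orderOf_injective φ hinj, orderOf_eq_prime hx2 hx1]
  have hy : orderOf (φ sevY) = 3 := by
    haveI := Fact.mk Nat.prime_three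
    rw [orderOf_injective φ hinj, orderOf_eq_prime hy3 hy1]
  have m : Mixed (φ sevX) (φ sevY) 3 := ⟨ht, Nat.prime_three, by norm_num, hy,
    show _ = _ by rw [← map_mul, ← map_mul, hyx]⟩
  have hP : IsPGroup 2 (φ.comp sevHom).range :=
    (IsPGroup.of_card (n := 3) (by rw [DihedralGroup.nat_card]; rfl)).of_surjective
      (φ.comp sevHom).rangeRestrict (φ.comp sevHom).rangeRestrict_surjective
  have hc := h.mixed_comm m hP (by
    rintro _ ⟨d, rfl⟩
    refine mem_centralizer_singleton_iff.2 ?_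
    rw [MonoidHom.comp_apply, ← map_mul, ← map_mul, sevHom_comm])
  have h1 : φ (sevHom (DihedralGroup.r 1)) * φ (sevHom (DihedralGroup.sr 0)) =
      φ (sevHom (DihedralGroup.sr 0)) * φ (sevHom (DihedralGroup.r 1)) :=
    hc _ ⟨DihedralGroup.r 1, rfl⟩ _ ⟨DihedralGroup.sr 0, rfl⟩
  rw [← map_mul φ, ← map_mul φ] at h1
  refine hfs ?_
  have h2 := hinj h1
  simpa [sevHom, show ZMod.val (1 : ZMod 4) = 1 from rfl] using h2

/-- The socle. -/
theorem socle_psl {M : Subgroup G} (hM : IsSocle M) :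
    ∃ (F : Type) (_ : Field F) (_ : Fintype F), Odd (Fintype.card F) ∧ 3 < Fintype.card F ∧
      Nonempty (M ≃* Matrix.ProjectiveSpecialLinearGroup (Fin 2) F) := by
  classical
  haveI := Fact.mk Nat.prime_two
  obtain ⟨hMn, hMs, hnc, -⟩ := hM
  haveI := hMn
  haveI := hMs
  have hns : ¬ Group.IsSolvable M := fun hs => hnc ⟨⟨IsSimpleGroup.comm_iff_isSolvable.2 hs⟩⟩
  have heven : Even (Nat.card M) := Nat.not_odd_iff_even.1 fun ho => hns (Cfsg.Agent.S0205.result ho)
  by_cases hmix : ∃ (t b : G) (p : ℕ), Mixed t b p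
  swap
  · have hcit : ∀ t : G, orderOf t = 2 → IsPGroup 2 (centralizer ({t} : Set G)) := fun t ht =>
      (cit_or_mixed ht).resolve_right fun ⟨b, p, m⟩ => hmix ⟨t, b, p, m⟩
    have hsn := h.selfNorm_of_cit hcit hMn (even_iff_two_dvd.1 heven)
    have hMcit : Transfer.CIT.IsCIT M :=
      (show Transfer.CIT.IsCIT G from hcit).of_injective M.subtype M.subtype_injective
    rcases hMcit.classification_iso hnc with ⟨F, i1, i2, -, ⟨e⟩⟩ | ⟨F, i1, i2, hF, ⟨e⟩⟩ |
      ⟨F, i1, i2, m, hm, hF, ⟨e⟩⟩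
    · rcases Nat.even_or_odd (Fintype.card F) with he | ho
      · exfalso
        obtain ⟨S⟩ : Nonempty (Sylow 2 M) := inferInstance
        refine not_selfNorm_of_comm hns S ⟨⟨fun a b => ?_⟩⟩ hsn
        have hc := Transfer.SizesPSL.psl_sylow_comm (F := F) (Or.inr (even_iff_two_dvd.1 he))
          (S.mapSurjective (f := e.toMonoidHom) e.surjective)
        exact Subtype.ext (e.injective (by
          rw [Subgroup.coe_mul, Subgroup.coe_mul, map_mul, map_mul]
          exact congrArg Subtype.val (hc.is_comm.comm ⟨_, (a : M), a.2, rfl⟩ ⟨_, (b : M), b.2, rfl⟩)))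
      · refine ⟨F, i1, i2, ho, ?_, ⟨e⟩⟩
        have := Transfer.CIT.four_le_card_field hnc e
        omega
    · exfalso
      obtain ⟨f⟩ := Spor.L34Elem.model hF
      exact not_selfNorm_l34 (hsn.congr (e.trans f))
    · exfalso
      exact not_selfNorm_suzuki ⟨hm, hF⟩ (hsn.congr (e.trans (Suz.szEquiv ⟨hm, hF⟩).symm))
  obtain ⟨t, b, p, m⟩ := hmix
  obtain ⟨hsyl, hrank⟩ := h.sylow_cases m
  obtain ⟨S⟩ : Nonempty (Sylow 2 M) := inferInstance
  have hrM : Cfsg.PRankLE 2 2 M := by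
    intro A hA hA2
    have h1 := hrank (A.map M.subtype) inferInstance (by
      rintro _ ⟨a, ha, rfl⟩
      rw [← map_pow, hA2 a ha, map_one])
    rwa [card_map_of_injective M.subtype_injective] at h1
  obtain ⟨T, hT⟩ := (S.isPGroup'.map M.subtype).exists_le_sylow
  have hsmall : IsMulCommutative (S : Subgroup M) ∨ Nat.card (S : Subgroup M) ≤ 8 := by
    rcases hsyl T with ⟨hc, -⟩ | ⟨h8, -⟩
    · exact Or.inl ⟨⟨fun a c => Subtype.ext (Subtype.ext
        (hc _ (hT ⟨_, a.2, rfl⟩) _ (hT ⟨_, c.2, rfl⟩)))⟩⟩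
    · exact Or.inr (by
        rw [← card_map_of_injective M.subtype_injective, ← h8]; exact card_le_of_le hT)
  letI : Fintype (GaloisField 2 4) := Fintype.ofFinite _
  have hF : Fintype.card (GaloisField 2 4) = 16 := by
    rw [← Nat.card_eq_fintype_card, GaloisField.card 2 4 (by norm_num)]
    norm_num
  obtain ⟨P⟩ : Nonempty (Sylow 2 (Cfsg.PSU 3 (GaloisField 2 4) 4)) := inferInstance
  obtain ⟨n, hn, ⟨e⟩⟩ : ∃ n : ℕ, 2 ≤ n ∧ Nonempty ((S : Subgroup M) ≃* DihedralGroup n) := by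
    rcases OddUse.simple_rank_two_sylow hnc heven hrM S hF P with hd | hq | hw | ⟨⟨e⟩⟩
    · exact hd
    all_goals exfalso
    · rcases hsmall with hc | hle
      · exact GW.not_comm_quasiDihedral hq hc
      · obtain ⟨k, hk, hcard, -⟩ := hq
        have : 2 ^ 4 ≤ 2 ^ (k + 1) := Nat.pow_le_pow_right two_pos (by omega)
        omega
    · rcases hsmall with hc | hle
      · exact GW.not_comm_wreathed hw hc
      · obtain ⟨k, hk, hcard, -⟩ := hw
        have : 2 ^ 5 ≤ 2 ^ (2 * k + 1) := Nat.pow_le_pow_right two_pos (by omega)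
        omega
    · rcases hsmall with hc | hle
      · refine absurd ?_ (CentInt.psu_sylow_nonabelian (F := GaloisField 2 4) (q := 4) (n := 2)
          (by rw [hF]; rfl) rfl (by norm_num) P)
        exact ⟨⟨fun a c => e.symm.injective (by rw [map_mul, map_mul]; exact hc.is_comm.comm _ _)⟩⟩
      · haveI : CharP (GaloisField 2 4) 2 := Recog.SU3Two.charP_two (m := 4) (by rw [hF]; rfl)
        haveI : Fact (Fintype.card (GaloisField 2 4) = 4 ^ 2) := ⟨by rw [hF]; rfl⟩
        obtain ⟨e2⟩ := Recog.SU3Two.sylow_psu (F := GaloisField 2 4) (q := 4) (n := 2) rfl (by norm_num) P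
        rw [Nat.card_congr e.toEquiv, ← Nat.card_congr e2.toEquiv, Recog.SU3Two.UT.card] at hle
        norm_num at hle
  haveI : Group.IsPerfect M := ⟨((inferInstance : (commutator M).Normal).eq_bot_or_eq_top).resolve_left
    fun h => hnc ⟨⟨fun a b => commutatorElement_eq_one_iff_mul_comm.1
      (mem_bot.1 (h ▸ commutator_mem_commutator (mem_top a) (mem_top b)))⟩⟩⟩
  have hO : Cfsg.oddCore M = ⊥ := by
    refine (Grp.pPrimeCore_isNormal (p := 2) (G := M)).eq_bot_or_eq_top.resolve_right fun h => ?_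
    have hc : (Nat.card (Cfsg.pPrimeCore 2 M)).Coprime 2 := Grp.pPrimeCore_coprime
    rw [h, Subgroup.card_top] at hc
    exact Nat.not_even_iff_odd.2 (Nat.coprime_two_right.1 hc) heven
  have strip : ∀ {Q : Type} [Group Q], Nonempty (M ⧸ Cfsg.oddCore M ≃* Q) → Nonempty (M ≃* Q) :=
    fun {Q} _ ⟨f⟩ =>
      ⟨((QuotientGroup.quotientMulEquivOfEq hO).trans QuotientGroup.quotientBot).symm.trans f⟩
  rcases Cfsg.Agent.S0483.result S n hn ⟨e⟩ with ⟨F, i1, i2, hodd, h3, hf⟩ | hf
  · exact ⟨F, i1, i2, hodd, h3, strip hf⟩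
  · obtain ⟨f⟩ := strip hf
    exact (h.not_seven f).elim

end MN

end Cfsg.Agent.Invol.MaxNorm
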