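import Cfsg.Agent.Lib.Invol.MaxNorm.Klein

/-!
# Maximal normalisers: the Sylow 2-subgroups in the mixed case (for S4233)
-/

set_option autoImplicit false
set_option linter.style.haveILetI false

namespace Cfsg.Agent.Invol.MaxNorm

open Subgroup
open scoped Pointwise

universe u

variable {G : Type u} [Group G] [Finite G]

/-- All elements commute. -/
def Comm (A : Subgroup G) : Prop := ∀ x ∈ A, ∀ y ∈ A, x * y = y * x

omit [Finite G] in
theorem comm_conj {A B : Subgroup G} (g : G) (h : Comm B) (hAB : ∀ a ∈ A, g * a * g⁻¹ ∈ B) : Comm A := by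
  intro x hx y hy
  have e := h _ (hAB x hx) _ (hAB y hy)
  rw [show g * x * g⁻¹ * (g * y * g⁻¹) = g * (x * y) * g⁻¹ by group,
    show g * y * g⁻¹ * (g * x * g⁻¹) = g * (y * x) * g⁻¹ by group] at e
  exact mul_left_cancel (mul_right_cancel e)

theorem orbit_three {d x : G} (hd : Odd (orderOf d)) (hne : d * x * d⁻¹ ≠ x) :
    d * (d * x * d⁻¹) * d⁻¹ ≠ x ∧ d * (d * x * d⁻¹) * d⁻¹ ≠ d * x * d⁻¹ := by
  refine ⟨fun e => hne ?_, fun e => hne (mul_left_cancel (mul_right_cancel e))⟩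
  obtain ⟨m, hm⟩ := exists_pow_eq_self_of_coprime (x := d) (n := 2) (Nat.coprime_two_left.2 hd)
  have h2 : Commute (d ^ 2) x := mul_inv_eq_iff_eq_mul.1 (by
    calc d ^ 2 * x * (d ^ 2)⁻¹ = d * (d * x * d⁻¹) * d⁻¹ := by rw [sq]; group
      _ = x := e)
  have : Commute d x := hm ▸ h2.pow_left m
  rw [this.eq, mul_inv_cancel_right]

theorem exists_central_invol {Q : Subgroup G} (hQ : IsPGroup 2 Q) (hQ1 : Q ≠ ⊥) :
    ∃ x ∈ Q, orderOf x = 2 ∧ ∀ q ∈ Q, q * x = x * q := by
  haveI : Fact (Nat.Prime 2) := ⟨Nat.prime_two⟩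
  haveI : Nontrivial Q := (Subgroup.nontrivial_iff_ne_bot Q).2 hQ1
  haveI := hQ.center_nontrivial
  obtain ⟨c, hc1⟩ := exists_ne (1 : center Q)
  have hc1' : ((c : Q) : G) ≠ 1 := fun e => hc1 (Subtype.ext (Subtype.ext e))
  obtain ⟨n, hn⟩ := exists_pow_orderOf_two hQ (c : Q).2 hc1'
  refine ⟨_, pow_mem (c : Q).2 n, hn, fun q hq => ?_⟩
  exact ((show Commute q ((c : Q) : G) from
    congrArg Subtype.val (mem_center_iff.1 c.2 ⟨q, hq⟩)).pow_right n).eq

namespace MN

variable (h : MN G)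
include h

theorem case_top {t b : G} {p : ℕ} (m : Mixed t b p) {S : Subgroup G}
    (hS : MaxTwo (centralizer ({t} : Set G)) S) (T : Sylow 2 G) (hTS : (T : Subgroup G) = S) :
    Comm S ∧ Nat.card (T : Subgroup G) ≠ 8 := by
  haveI : Fact (Nat.Prime 2) := ⟨Nat.prime_two⟩
  obtain ⟨htS, v, hv, hv2, hvt, hvc⟩ := h.exists_u m.ht m.hp m.hp2 m.hb m.comm hS
  have hmem : ∀ x ∈ S, orderOf x = 2 → x = t ∨ x = v ∨ x = t * v := fun x hx hx2 =>
    (h.invol_mem m hS hv hv2 hvt hvc hx (sq_eq_one_of_two hx2)).resolve_left (ne_one_of_orderOf (by norm_num) hx2)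
  obtain ⟨Q, d, hQT, hdQ, hd, hnc⟩ := h.exists_local T
  have hQ := T.isPGroup'.to_le hQT
  have hQ1 : Q ≠ ⊥ := fun e => hnc fun q hq => by
    rw [e, mem_bot] at hq; rw [hq, one_mul, mul_one]
  obtain ⟨x, hxQ, hx2, hxc⟩ := exists_central_invol hQ hQ1
  have hstep : ∀ x ∈ Q, orderOf x = 2 → (∀ q ∈ Q, q * x = x * q) → d * x * d⁻¹ ∈ Q ∧ orderOf (d * x * d⁻¹) = 2 ∧
      (∀ q ∈ Q, q * (d * x * d⁻¹) = (d * x * d⁻¹) * q) ∧ d * x * d⁻¹ ≠ x := by
    intro x hxQ hx2 hxc
    refine ⟨(mem_normalizer_iff.1 hdQ x).1 hxQ, by rw [← hx2]; exact orderOf_injective (MulAut.conj d).toMonoidHom (MulAut.conj d).injective x, fun q hq => ?_, fun e => ?_⟩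
    · have h1 := hxc (d⁻¹ * q * d) (by
        have := (mem_normalizer_iff.1 (inv_mem hdQ) q).1 hq
        rwa [inv_inv] at this)
      calc q * (d * x * d⁻¹) = d * (d⁻¹ * q * d * x) * d⁻¹ := by group
        _ = d * (x * (d⁻¹ * q * d)) * d⁻¹ := by rw [h1]
        _ = _ := by group
    · exact hnc (h.centralize_of_fix hQ hd hdQ hx2 hxc (mul_inv_eq_iff_eq_mul.1 e))
  obtain ⟨hyQ, hy2, hyc, hyne⟩ := hstep x hxQ hx2 hxc
  obtain ⟨hzQ, hz2, -, -⟩ := hstep _ hyQ hy2 hyc
  obtain ⟨hzx, hzy⟩ := orbit_three hd hyne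
  -- all three involutions are conjugate to `t`
  have hconj : ∀ a, a = t ∨ a = v ∨ a = t * v → ∃ g, g * t * g⁻¹ = a := by
    have h1 := hmem x (hTS ▸ hQT hxQ) hx2
    have h2 := hmem _ (hTS ▸ hQT hyQ) hy2
    have h3 := hmem _ (hTS ▸ hQT hzQ) hz2
    have hall : ∀ a, a = t ∨ a = v ∨ a = t * v → ∃ k : G, k * x * k⁻¹ = a := by
      intro a ha
      have : a = x ∨ a = d * x * d⁻¹ ∨ a = d * (d * x * d⁻¹) * d⁻¹ := by
        rcases ha with ha | ha | ha <;> rcases h1 with e1 | e1 | e1 <;> rcases h2 with e2 | e2 | e2 <;>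
          rcases h3 with e3 | e3 | e3 <;>
          first
            | exact Or.inl (ha.trans e1.symm)
            | exact Or.inr (Or.inl (ha.trans e2.symm))
            | exact Or.inr (Or.inr (ha.trans e3.symm))
            | exact absurd (e2.trans e1.symm) hyne
            | exact absurd (e3.trans e1.symm) hzx
            | exact absurd (e3.trans e2.symm) hzy
      rcases this with e | e | e
      · exact ⟨1, by rw [e]; group⟩
      · exact ⟨d, e.symm⟩
      · exact ⟨d * d, by rw [e]; group⟩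
    obtain ⟨k₀, hk₀⟩ := hall t (Or.inl rfl)
    intro a ha
    obtain ⟨k, hk⟩ := hall a ha
    exact ⟨k * k₀⁻¹, by rw [← hk, ← hk₀]; group⟩
  obtain ⟨g, hg⟩ := hconj v (Or.inr (Or.inl rfl))
  have n : Mixed v (g * b * g⁻¹) p := hg ▸ m.conj g
  have hcomm : Comm S := fun s hs s' hs' => h.comm_of_two_mixed m n (Ne.symm hvt) hS.isP
    (fun s hs => mem_centralizer_singleton_iff.1 (hS.le hs)) hvc hs hs'
  refine ⟨hcomm, fun h8 => ?_⟩
  -- abelian of order eight: the squares form a characteristic subgroup of order two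
  have hTc : ∀ a ∈ (T : Subgroup G), ∀ c ∈ (T : Subgroup G), a * c = c * a := fun a ha c hc =>
    hcomm a (hTS ▸ ha) c (hTS ▸ hc)
  letI : CommGroup (T : Subgroup G) :=
    { (inferInstance : Group (T : Subgroup G)) with mul_comm := fun a c => Subtype.ext (hTc a a.2 c c.2) }
  let φ : (T : Subgroup G) →* (T : Subgroup G) := powMonoidHom 2
  have hker : Nat.card φ.ker ≤ 4 := by
    classical
    have hall : ∀ a : φ.ker, ((a : (T : Subgroup G)) : G) ∈ ({1, t, v, t * v} : Finset G) := fun a => by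
      have ha2 : ((a : (T : Subgroup G)) : G) * a = 1 := by
        have h0 : (a : (T : Subgroup G)) ^ 2 = 1 := MonoidHom.mem_ker.1 a.2
        have h1 : ((a : (T : Subgroup G)) : G) ^ 2 = 1 := congrArg Subtype.val h0
        rwa [sq] at h1
      rcases h.invol_mem m hS hv hv2 hvt hvc (hTS ▸ (a : (T : Subgroup G)).2) ha2 with e | e | e | e <;>
        simp [e]
    refine le_trans (Nat.card_le_card_of_injective (fun a => (⟨_, hall a⟩ : ({1, t, v, t * v} : Finset G)))
      fun a c e => by have e2 := congrArg Subtype.val e; exact Subtype.ext (Subtype.ext e2)) ?_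
    rw [Nat.card_eq_fintype_card, Fintype.card_coe]
    exact Finset.card_le_four
  have hmul := φ.ker.card_mul_index
  rw [index_ker, h8] at hmul
  have hrange : 2 ≤ Nat.card φ.range := by
    by_contra hlt
    have : Nat.card φ.range = 1 := by have := Nat.card_pos (α := φ.range); omega
    rw [this, mul_one] at hmul
    omega
  have hr2 : Nat.card φ.range = 2 := by
    -- at least the three involutions lie in the kernel
    have hk4 : 4 ≤ Nat.card φ.ker := by
      have hmem' : ∀ a : G, a ∈ S → a * a = 1 → ∃ k : φ.ker, ((k : (T : Subgroup G)) : G) = a := fun a ha ha2 =>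
        ⟨⟨⟨a, hTS.symm ▸ ha⟩, MonoidHom.mem_ker.2 (Subtype.ext (by
          show a ^ 2 = 1; rw [sq]; exact ha2))⟩, rfl⟩
      have htv : t * v * (t * v) = 1 := by
        rw [show t * v * (t * v) = t * (v * t) * v by group, ← hvc t htS, ← mul_assoc t t v,
          sq_eq_one_of_two m.ht, one_mul, sq_eq_one_of_two hv2]
      obtain ⟨k1, e1⟩ := hmem' 1 S.one_mem (mul_one 1)
      obtain ⟨k2, e2⟩ := hmem' t htS (sq_eq_one_of_two m.ht)
      obtain ⟨k3, e3⟩ := hmem' v hv (sq_eq_one_of_two hv2)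
      obtain ⟨k4, e4⟩ := hmem' (t * v) (S.mul_mem htS hv) htv
      classical
      haveI := Fintype.ofFinite φ.ker
      rw [Nat.card_eq_fintype_card]
      have ne : ∀ {i j : φ.ker} {a c : G}, ((i : (T : Subgroup G)) : G) = a → ((j : (T : Subgroup G)) : G) = c →
          a ≠ c → i ≠ j := fun hi hj hac e => hac (by rw [← hi, ← hj, e])
      have h14 : (1 : G) ≠ t * v := fun e => hvt (by
        rw [← mul_one t, e, ← mul_assoc, sq_eq_one_of_two m.ht, one_mul])
      have n12 := ne e1 e2 (ne_one_of_orderOf (by norm_num) m.ht).symm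
      have n13 := ne e1 e3 (ne_one_of_orderOf (by norm_num) hv2).symm
      have n14 := ne e1 e4 h14
      have n23 := ne e2 e3 (Ne.symm hvt)
      have n24 := ne e2 e4 (fun e => ne_one_of_orderOf (by norm_num) hv2 (mul_left_cancel (by rw [← e, mul_one])))
      have n34 := ne e3 e4 (fun e => ne_one_of_orderOf (by norm_num) m.ht (mul_right_cancel (b := v) (by rw [← e, one_mul])))
      calc 4 = ({k1, k2, k3, k4} : Finset φ.ker).card := by
            simp [n12, n13, n14, n23, n24, n34]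
        _ ≤ _ := Finset.card_le_univ _
    have : Nat.card φ.ker = 4 := le_antisymm hker hk4
    rw [this] at hmul
    omega
  obtain ⟨w₀, hw₀⟩ := exists_prime_orderOf_dvd_card' (G := φ.range) 2 (dvd_of_eq hr2.symm)
  have hw0 : orderOf ((w₀ : (T : Subgroup G)) : G) = 2 := by
    rw [Subgroup.orderOf_coe, Subgroup.orderOf_coe, hw₀]
  have hsq : ∀ a : (T : Subgroup G), a ^ 2 = 1 ∨ a ^ 2 = (w₀ : (T : Subgroup G)) := by
    intro a
    by_contra hne
    push Not at hne
    classical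
    haveI := Fintype.ofFinite φ.range
    have h3 : ({1, w₀, ⟨a ^ 2, a, rfl⟩} : Finset φ.range).card = 3 := by
      have n1 : (1 : φ.range) ≠ w₀ := fun e => by rw [← e, orderOf_one] at hw₀; norm_num at hw₀
      have n2 : (1 : φ.range) ≠ ⟨a ^ 2, a, rfl⟩ := fun e => hne.1 (congrArg Subtype.val e).symm
      have n3 : w₀ ≠ ⟨a ^ 2, a, rfl⟩ := fun e => hne.2 (congrArg Subtype.val e).symm
      simp [n1, n2, n3]
    have := Finset.card_le_univ ({1, w₀, ⟨a ^ 2, a, rfl⟩} : Finset φ.range)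
    rw [h3, ← Nat.card_eq_fintype_card, hr2] at this
    omega
  obtain ⟨s, hs⟩ := w₀.2
  -- another involution, conjugate in `N(T)`
  obtain ⟨a, ha, hane⟩ : ∃ a, (a = t ∨ a = v ∨ a = t * v) ∧ a ≠ ((w₀ : (T : Subgroup G)) : G) := by
    by_cases e : t = ((w₀ : (T : Subgroup G)) : G)
    · exact ⟨v, Or.inr (Or.inl rfl), fun e' => hvt (e'.trans e.symm)⟩
    · exact ⟨t, Or.inl rfl, e⟩
  obtain ⟨k, hk⟩ := hconj a ha
  obtain ⟨k', hk'⟩ := hconj _ (hmem _ (hTS ▸ (w₀ : (T : Subgroup G)).2) hw0)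
  have haT : a ∈ (T : Subgroup G) := by
    rw [hTS]
    rcases ha with e | e | e <;> rw [e]
    exacts [htS, hv, S.mul_mem htS hv]
  have hsingle : ∀ c : G, c ∈ (T : Subgroup G) → ∀ y ∈ (T : Subgroup G),
      (fun z => y * z * y⁻¹) '' ({c} : Set G) = {c} := fun c hc y hy => by
    rw [Set.image_singleton, hTc y hy c hc, mul_inv_cancel_right]
  obtain ⟨n', hn', hne'⟩ := Cfsg.Agent.S0076.result T {((w₀ : (T : Subgroup G)) : G)} {a}
    (Set.singleton_subset_iff.2 (w₀ : (T : Subgroup G)).2) (Set.singleton_subset_iff.2 haT)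
    (hsingle _ (w₀ : (T : Subgroup G)).2) (hsingle _ haT) (k * k'⁻¹) (by
      rw [Set.image_singleton, ← hk', ← hk]
      congr 1
      group)
  rw [Set.image_singleton, Set.singleton_eq_singleton_iff] at hne'
  have hs' : ((w₀ : (T : Subgroup G)) : G) = (s : G) ^ 2 := by
    rw [← SubgroupClass.coe_pow]; exact congrArg Subtype.val hs.symm
  rcases hsq ⟨n' * (s : G) * n'⁻¹, (mem_normalizer_iff.1 hn' s).1 s.2⟩ with e | e
  all_goals
    have e' := congrArg Subtype.val e
    rw [SubgroupClass.coe_pow, conj_pow, ← hs', hne'] at e'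
  · rw [OneMemClass.coe_one] at e'
    have := hconj a ha
    obtain ⟨k2, hk2⟩ := this
    refine ne_one_of_orderOf (n := 2) (by norm_num) ((hk2 ▸ (m.conj k2).ht) : orderOf a = 2) e'
  · exact hane e'

end MN

end Cfsg.Agent.Invol.MaxNorm
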