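import Cfsg.Agent.Lib.Invol.MaxNorm.Structure

/-!
# Maximal normalisers: a swapped four group gives a Sylow 2-subgroup of order eight (for S4233)
-/

set_option autoImplicit false
set_option linter.style.haveILetI false

namespace Cfsg.Agent.Invol.MaxNorm

open Subgroup
open scoped Pointwise

universe u

variable {G : Type u} [Group G] [Finite G]

omit [Finite G] in
theorem conj_inj' {g x y : G} (e : g * x * g⁻¹ = g * y * g⁻¹) : x = y :=
  mul_left_cancel (mul_right_cancel e)

namespace MN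

variable (h : MN G)
include h

theorem case_swap {t b : G} {p : ℕ} (m : Mixed t b p) {S : Subgroup G}
    (hS : MaxTwo (centralizer ({t} : Set G)) S) (T : Sylow 2 G) (hST : S ≤ (T : Subgroup G))
    (hne : (T : Subgroup G) ≠ S) :
    Comm S ∧ Nat.card (T : Subgroup G) = 8 ∧ ¬ Comm (T : Subgroup G) := by
  haveI : Fact (Nat.Prime 2) := ⟨Nat.prime_two⟩
  obtain ⟨htS, -⟩ := h.exists_u m.ht m.hp m.hp2 m.hb m.comm hS
  have hSt : ∀ s ∈ S, s * t = t * s := fun s hs => mem_centralizer_singleton_iff.1 (hS.le hs)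
  -- an element moving `t`
  obtain ⟨g, hgT, hgN, hgS⟩ : ∃ g ∈ (T : Subgroup G), g ∈ normalizer (S : Set G) ∧ g ∉ S := by
    have hlt : S.subgroupOf (T : Subgroup G) < ⊤ := lt_top_iff_ne_top.2 fun e =>
      hne (le_antisymm (fun x hx => mem_subgroupOf.1 (e ▸ mem_top (⟨x, hx⟩ : (T : Subgroup G)))) hST)
    haveI := T.isPGroup'.isNilpotent
    obtain ⟨x, hxN, hxS⟩ := SetLike.exists_of_lt (Group.normalizerCondition_of_isNilpotent _ hlt)
    exact ⟨x, x.2, mem_normalizer_of_map_mem fun a ha =>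
      mem_subgroupOf.1 ((mem_normalizer_iff.1 hxN ⟨a, hST ha⟩).1 (mem_subgroupOf.2 ha)),
      fun e => hxS (mem_subgroupOf.2 e)⟩
  have hfix : ∀ k : G, k ∈ (T : Subgroup G) → k ∈ normalizer (S : Set G) → k * t * k⁻¹ = t → k ∈ S := by
    intro k hkT hkN hk
    have := hS.max (S ⊔ zpowers k) (sup_le hS.le (zpowers_le.2 (mem_centralizer_singleton_iff.2
      (mul_inv_eq_iff_eq_mul.1 hk)))) (T.isPGroup'.to_le (sup_le hST (zpowers_le.2 hkT))) le_sup_left
    exact this ▸ mem_sup_right (mem_zpowers k)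
  set v := g * t * g⁻¹ with hvdef
  have n : Mixed v (g * b * g⁻¹) p := m.conj g
  have hv : v ∈ S := (mem_normalizer_iff.1 hgN t).1 htS
  have hv2 : orderOf v = 2 := n.ht
  have hvt : v ≠ t := fun e => hgS (hfix g hgT hgN e)
  have hconjS : ∀ k ∈ normalizer (S : Set G), ∀ x, (∀ s ∈ S, s * x = x * s) →
      ∀ s ∈ S, s * (k * x * k⁻¹) = (k * x * k⁻¹) * s := by
    intro k hk x hx s hs
    have h1 := hx (k⁻¹ * s * k) (by
      have := (mem_normalizer_iff.1 (inv_mem hk) s).1 hs
      rwa [inv_inv] at this)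
    calc s * (k * x * k⁻¹) = k * (k⁻¹ * s * k * x) * k⁻¹ := by group
      _ = k * (x * (k⁻¹ * s * k)) * k⁻¹ := by rw [h1]
      _ = _ := by group
  have hvc : ∀ s ∈ S, s * v = v * s := hconjS g hgN t hSt
  have hvt' : Commute v t := hSt v hv
  have hSc : Comm S := fun s hs s' hs' => h.comm_of_two_mixed m n (Ne.symm hvt) hS.isP hSt hvc hs hs'
  set w := t * v with hw
  have hwS : w ∈ S := S.mul_mem htS hv
  have hwt : w ≠ t := fun e => ne_one_of_orderOf (by norm_num) hv2 (mul_left_cancel (e.trans (mul_one t).symm))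
  have hwv : w ≠ v := fun e => ne_one_of_orderOf (by norm_num) m.ht (mul_right_cancel (e.trans (one_mul v).symm))
  have hwsq : w * w = 1 := by
    rw [hw, show t * v * (t * v) = t * (v * t) * v by group, hvt'.eq, ← mul_assoc t t v,
      sq_eq_one_of_two m.ht, one_mul, sq_eq_one_of_two hv2]
  have hw1 : w ≠ 1 := fun e => hvt (by
    rw [← inv_eq_self_of_two m.ht]; exact eq_inv_of_mul_eq_one_right e)
  have hw2 : orderOf w = 2 := orderOf_eq_prime (by rw [sq, hwsq]) hw1
  have hmem : ∀ x ∈ S, x * x = 1 → x = 1 ∨ x = t ∨ x = v ∨ x = w := fun x hx hx2 =>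
    h.invol_mem m hS hv hv2 hvt hvc hx hx2
  have hgvS : g * v * g⁻¹ ∈ S := (mem_normalizer_iff.1 hgN v).1 hv
  have hgv2 : g * v * g⁻¹ * (g * v * g⁻¹) = 1 := by
    rw [show g * v * g⁻¹ * (g * v * g⁻¹) = g * (v * v) * g⁻¹ by group, sq_eq_one_of_two hv2]; group
  -- `g` exchanges `t` and `v`
  have hgv : g * v * g⁻¹ = t := by
    rcases hmem _ hgvS hgv2 with e | e | e | e
    · exact absurd (conj_eq_one_iff.1 e) (ne_one_of_orderOf (by norm_num) hv2)
    · exact e
    · exact absurd (conj_inj' (e.trans hvdef)) hvt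
    · exfalso
      refine hgS ?_
      have h3 : (g ^ 3) * t * (g ^ 3)⁻¹ = t := by
        calc (g ^ 3) * t * (g ^ 3)⁻¹ = g * (g * (g * t * g⁻¹) * g⁻¹) * g⁻¹ := by
              rw [show g ^ 3 = g * (g * g) by rw [pow_succ', sq]]; group
          _ = g * (t * v) * g⁻¹ := by rw [← hvdef, e, hw]
          _ = (g * t * g⁻¹) * (g * v * g⁻¹) := by group
          _ = v * (t * v) := by rw [← hvdef, e, hw]
          _ = t := by rw [← mul_assoc, hvt'.eq, mul_assoc, sq_eq_one_of_two hv2, mul_one]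
      have h3S : g ^ 3 ∈ S := hfix _ (pow_mem hgT 3) (pow_mem hgN 3) h3
      obtain ⟨k, hk⟩ := (IsPGroup.iff_orderOf.1 T.isPGroup') ⟨g, hgT⟩
      rw [Subgroup.orderOf_mk] at hk
      obtain ⟨j, hj⟩ := exists_pow_eq_self_of_coprime (x := g) (n := 3)
        (hk ▸ Nat.Coprime.pow_right k (by norm_num : Nat.Coprime 3 2))
      exact hj ▸ pow_mem h3S j
  have hgw : g * w * g⁻¹ = w := by
    rw [hw, show g * (t * v) * g⁻¹ = (g * t * g⁻¹) * (g * v * g⁻¹) by group, ← hvdef, hgv, hvt'.eq]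
  -- `w` is not conjugate to `t`
  have hwnot : ∀ k : G, k * t * k⁻¹ ≠ w := by
    intro k hk
    set A := S ⊔ zpowers g with hA
    have hA2 : IsPGroup 2 A := T.isPGroup'.to_le (sup_le hST (zpowers_le.2 hgT))
    have hSw : ∀ a ∈ A, a * w = w * a := by
      have hle : A ≤ centralizer ({w} : Set G) := sup_le
        (fun s hs => mem_centralizer_singleton_iff.2 (hSc s hs w hwS))
        (zpowers_le.2 (mem_centralizer_singleton_iff.2 (mul_inv_eq_iff_eq_mul.1 hgw)))
      exact fun a ha => mem_centralizer_singleton_iff.1 (hle ha)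
    set A' := A.map (MulAut.conj k⁻¹).toMonoidHom with hA'
    have hA'M : A' ≤ centralizer ({t} : Set G) := by
      rintro _ ⟨a, ha, rfl⟩
      refine mem_centralizer_singleton_iff.2 ?_
      simp only [MulEquiv.coe_toMonoidHom, MulAut.conj_apply, inv_inv]
      calc k⁻¹ * a * k * t = k⁻¹ * (a * (k * t * k⁻¹)) * k := by group
        _ = k⁻¹ * ((k * t * k⁻¹) * a) * k := by rw [hk, hSw a ha]
        _ = _ := by group
    obtain ⟨c, -, hc⟩ := card_le_maxTwo hS (hA2.map _) hA'M
    have hlt : Nat.card A ≤ Nat.card S := by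
      refine Nat.card_le_card_of_injective (fun a => (⟨c * (k⁻¹ * (a : G) * k⁻¹⁻¹) * c⁻¹,
        hc _ ⟨a, a.2, rfl⟩⟩ : S)) fun x y e => Subtype.ext ?_
      exact conj_inj' (conj_inj' (congrArg (fun z : S => (z : G)) e))
    exact hgS ((Subgroup.eq_of_le_of_card_ge (le_sup_left : S ≤ A) hlt).symm ▸ mem_sup_right (mem_zpowers g))
  -- conjugates inside the four group
  set V : Subgroup G := closure {t, v} with hV
  have hVS : V ≤ S := by rw [hV, closure_le]; rintro x (rfl | rfl) <;> assumption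
  have hVinv : ∀ x ∈ V, x * x = 1 := by
    intro x hx
    rw [hV] at hx
    induction hx using Subgroup.closure_induction with
    | mem x hx => rcases hx with rfl | rfl; exacts [sq_eq_one_of_two m.ht, sq_eq_one_of_two hv2]
    | one => exact mul_one 1
    | mul x y hx hy ex ey =>
      have hxy : x * y = y * x := hSc x (hVS hx) y (hVS hy)
      rw [show x * y * (x * y) = x * (y * x) * y by group, ← hxy, ← mul_assoc x x y, ex, one_mul, ey]
    | inv x hx ex => rw [← mul_inv_rev, ex, inv_one]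
  have hVN : ∀ k ∈ normalizer (V : Set G),
      (k * t * k⁻¹ = t ∧ k * v * k⁻¹ = v) ∨ (k * t * k⁻¹ = v ∧ k * v * k⁻¹ = t) := by
    intro k hk
    have hin : ∀ x, x ∈ V → k * x * k⁻¹ ∈ S := fun x hx => hVS ((mem_normalizer_iff.1 hk x).1 hx)
    have hsq : ∀ x, x ∈ V → k * x * k⁻¹ * (k * x * k⁻¹) = 1 := fun x hx =>
      hVinv _ ((mem_normalizer_iff.1 hk x).1 hx)
    have htV : t ∈ V := subset_closure (Or.inl rfl)
    have hvV : v ∈ V := subset_closure (Or.inr rfl)
    have hvnot : k * v * k⁻¹ ≠ w := fun e => hwnot (k * g) (by rw [← e, hvdef]; group)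
    have et : k * t * k⁻¹ = t ∨ k * t * k⁻¹ = v := by
      rcases hmem _ (hin t htV) (hsq t htV) with e | e | e | e
      exacts [absurd (conj_eq_one_iff.1 e) (ne_one_of_orderOf (by norm_num) m.ht), Or.inl e, Or.inr e,
        absurd e (hwnot k)]
    have ev : k * v * k⁻¹ = t ∨ k * v * k⁻¹ = v := by
      rcases hmem _ (hin v hvV) (hsq v hvV) with e | e | e | e
      exacts [absurd (conj_eq_one_iff.1 e) (ne_one_of_orderOf (by norm_num) hv2), Or.inl e, Or.inr e,
        absurd e hvnot]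
    rcases et with et | et <;> rcases ev with ev | ev
    · exact absurd (conj_inj' (ev.trans et.symm)) hvt
    · exact Or.inl ⟨et, ev⟩
    · exact Or.inr ⟨et, ev⟩
    · exact absurd (conj_inj' (ev.trans et.symm)) hvt
  have hV2 : IsPGroup 2 V := hS.isP.to_le hVS
  have hV1 : V ≠ ⊥ := fun e => ne_one_of_orderOf (by norm_num) m.ht
    (mem_bot.1 (e ▸ subset_closure (Or.inl rfl)))
  have hVmem : ∀ k : G, k * t * k⁻¹ ∈ V → k * v * k⁻¹ ∈ V → k ∈ normalizer (V : Set G) := by
    intro k h1 h2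
    refine mem_normalizer_of_map_mem fun a ha => ?_
    have hle : V ≤ V.comap (MulAut.conj k).toMonoidHom := by
      conv_lhs => rw [hV]
      rw [closure_le]
      rintro x (rfl | rfl) <;> assumption
    exact hle ha
  have hSV : S ≤ normalizer (V : Set G) := fun s hs => hVmem s
    (by rw [hSt s hs, mul_inv_cancel_right]; exact subset_closure (Or.inl rfl))
    (by rw [hvc s hs, mul_inv_cancel_right]; exact subset_closure (Or.inr rfl))
  have hgV : g ∈ normalizer (V : Set G) := hVmem g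
    (subset_closure (Or.inr rfl)) (hgv ▸ subset_closure (Or.inl rfl))
  -- the normaliser of `V` is a Sylow subgroup
  have hNfix : ∀ k ∈ normalizer (V : Set G), k * t * k⁻¹ = t → k ∈ S := by
    intro k hk e
    have e2 : k * v * k⁻¹ = v := by
      rcases hVN k hk with h1 | h1
      · exact h1.2
      · exact absurd (h1.1.symm.trans e) hvt
    exact h.cent_four m hS hv hv2 hvt hvc (mul_inv_eq_iff_eq_mul.1 e) (mul_inv_eq_iff_eq_mul.1 e2)
  have hsplit : ∀ k ∈ normalizer (V : Set G), k ∈ S ∨ g⁻¹ * k ∈ S := by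
    intro k hk
    rcases hVN k hk with h1 | h1
    · exact Or.inl (hNfix k hk h1.1)
    · refine Or.inr (hNfix _ (mul_mem (inv_mem hgV) hk) ?_)
      calc g⁻¹ * k * t * (g⁻¹ * k)⁻¹ = g⁻¹ * (k * t * k⁻¹) * g := by group
        _ = g⁻¹ * (g * t * g⁻¹) * g := by rw [h1.1]
        _ = t := by group
  have hNle : normalizer (V : Set G) ≤ (T : Subgroup G) := fun k hk => by
    rcases hsplit k hk with h1 | h1
    · exact hST h1
    · have := mul_mem hgT (hST h1)
      rwa [mul_inv_cancel_left] at this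
  have hTtop : (T : Subgroup G) ≠ ⊤ := fun e => by
    haveI := T.isPGroup'.isNilpotent
    exact h.ns (Group.isSolvable_of_surjective (f := ((MulEquiv.subgroupCongr e).trans topEquiv).toMonoidHom)
      (MulEquiv.surjective _))
  have hTN : normalizer (V : Set G) = (T : Subgroup G) :=
    (((h.coatom' hV1 (twoPr_pGroup Nat.prime_two hV2)).le_iff.1 hNle).resolve_left hTtop).symm
  have hTsplit : ∀ k ∈ (T : Subgroup G), k ∈ S ∨ g⁻¹ * k ∈ S := fun k hk => hsplit k (hTN ▸ hk)
  -- fusion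
  obtain ⟨Q, d, hQT, hdQ, hd, hnc⟩ := h.exists_local T
  have hQ := T.isPGroup'.to_le hQT
  have hQ1 : Q ≠ ⊥ := fun e => hnc fun q hq => by
    rw [e, mem_bot] at hq; rw [hq, one_mul, mul_one]
  let Cen : G → Prop := fun x => x ∈ Q ∧ x * x = 1 ∧ ∀ q ∈ Q, q * x = x * q
  have hCconj : ∀ x, Cen x → Cen (d * x * d⁻¹) := by
    rintro x ⟨h1, h2, h3⟩
    refine ⟨(mem_normalizer_iff.1 hdQ x).1 h1, ?_, fun q hq => ?_⟩
    · rw [show d * x * d⁻¹ * (d * x * d⁻¹) = d * (x * x) * d⁻¹ by group, h2]; group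
    · have h4 := h3 (d⁻¹ * q * d) (by
        have := (mem_normalizer_iff.1 (inv_mem hdQ) q).1 hq
        rwa [inv_inv] at this)
      calc q * (d * x * d⁻¹) = d * (d⁻¹ * q * d * x) * d⁻¹ := by group
        _ = d * (x * (d⁻¹ * q * d)) * d⁻¹ := by rw [h4]
        _ = _ := by group
  have hCmul : ∀ x y, Cen x → Cen y → Cen (x * y) := by
    rintro x y ⟨h1, h2, h3⟩ ⟨h4, h5, h6⟩
    refine ⟨mul_mem h1 h4, ?_, fun q hq => (Commute.mul_right (h3 q hq) (h6 q hq)).eq⟩
    rw [show x * y * (x * y) = x * (y * x) * y by group, ← h6 x h1, ← mul_assoc x x y, h2, one_mul, h5]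
  have hmove : ∀ x, Cen x → x ≠ 1 → d * x * d⁻¹ ≠ x := fun x hx hx1 e =>
    hnc (h.centralize_of_fix hQ hd hdQ (orderOf_eq_prime (by rw [sq, hx.2.1]) hx1) hx.2.2
      (mul_inv_eq_iff_eq_mul.1 e))
  obtain ⟨x₀, hx₀Q, hx₀2, hx₀c⟩ := exists_central_invol hQ hQ1
  have hx₀ : Cen x₀ := ⟨hx₀Q, sq_eq_one_of_two hx₀2, hx₀c⟩
  have hx₀1 : x₀ ≠ 1 := ne_one_of_orderOf (by norm_num) hx₀2
  -- a central involution of `Q` outside `S`
  obtain ⟨y, hy, hyS⟩ : ∃ y, Cen y ∧ y ∉ S := by
    by_contra hall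
    push Not at hall
    obtain ⟨h21, h22⟩ := orbit_three hd (hmove x₀ hx₀ hx₀1)
    set a := d * x₀ * d⁻¹ with ha
    set c := d * a * d⁻¹ with hc
    have ha' := hCconj _ hx₀
    have hc' := hCconj _ ha'
    have hne1 : ∀ z, Cen z → z ≠ 1 → (z = t ∨ z = v ∨ z = w) := fun z hz hz1 =>
      (hmem z (hall z hz) hz.2.1).resolve_left hz1
    have ha1 : a ≠ 1 := fun e => hx₀1 (conj_eq_one_iff.1 e)
    have hc1 : c ≠ 1 := fun e => ha1 (conj_eq_one_iff.1 e)
    have e1 := hne1 _ hx₀ hx₀1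
    have e2 := hne1 _ ha' ha1
    have e3 := hne1 _ hc' hc1
    have htvw : ∀ z, (z = t ∨ z = v ∨ z = w) → Cen z := by
      intro z hz
      have : z = x₀ ∨ z = a ∨ z = c := by
        rcases hz with hz | hz | hz <;> rcases e1 with e1 | e1 | e1 <;> rcases e2 with e2 | e2 | e2 <;>
          rcases e3 with e3 | e3 | e3 <;>
          first
            | exact Or.inl (hz.trans e1.symm)
            | exact Or.inr (Or.inl (hz.trans e2.symm))
            | exact Or.inr (Or.inr (hz.trans e3.symm))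
            | exact absurd (e2.trans e1.symm) (hmove x₀ hx₀ hx₀1)
            | exact absurd (e3.trans e1.symm) h21
            | exact absurd (e3.trans e2.symm) h22
      rcases this with e | e | e <;> rw [e] <;> assumption
    have hcon : ∀ z, z = t ∨ z = v → d * z * d⁻¹ ∈ V := by
      intro z hz
      have hC := htvw z (hz.imp id fun e => Or.inl e)
      rcases hmem _ (hall _ (hCconj _ hC)) (hCconj _ hC).2.1 with e | e | e | e <;> rw [e]
      exacts [one_mem _, subset_closure (Or.inl rfl), subset_closure (Or.inr rfl),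
        mul_mem (subset_closure (Or.inl rfl)) (subset_closure (Or.inr rfl))]
    have hdV : d ∈ normalizer (V : Set G) := hVmem d (hcon t (Or.inl rfl)) (hcon v (Or.inr rfl))
    refine hmove x₀ hx₀ hx₀1 ?_
    rw [eq_one_of_odd T.isPGroup' (hTN ▸ hdV) hd]
    group
  have hyT : y ∈ (T : Subgroup G) := hQT hy.1
  have hy1 : y ≠ 1 := fun e => hyS (e ▸ S.one_mem)
  have hyg : g⁻¹ * y ∈ S := (hTsplit y hyT).resolve_left hyS
  have hyt : y * t * y⁻¹ = v := by
    calc y * t * y⁻¹ = g * ((g⁻¹ * y) * t) * (g⁻¹ * y)⁻¹ * g⁻¹ := by group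
      _ = g * (t * (g⁻¹ * y)) * (g⁻¹ * y)⁻¹ * g⁻¹ := by rw [hSt _ hyg]
      _ = _ := by rw [hvdef]; group
  have hyv : y * v * y⁻¹ = t := by
    calc y * v * y⁻¹ = g * ((g⁻¹ * y) * v) * (g⁻¹ * y)⁻¹ * g⁻¹ := by group
      _ = g * (v * (g⁻¹ * y)) * (g⁻¹ * y)⁻¹ * g⁻¹ := by rw [hvc _ hyg]
      _ = g * v * g⁻¹ := by group
      _ = t := hgv
  have hyw : y * w * y⁻¹ = w := by
    rw [hw, show y * (t * v) * y⁻¹ = (y * t * y⁻¹) * (y * v * y⁻¹) by group, hyt, hyv, hvt'.eq]
  have hfixw : ∀ s ∈ S, y * s * y⁻¹ = s → s * s = 1 → s = 1 ∨ s = w := by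
    intro s hs hsy hs2
    rcases hmem s hs hs2 with rfl | rfl | rfl | rfl
    exacts [Or.inl rfl, absurd (hyt.symm.trans hsy) hvt, absurd (hyv.symm.trans hsy).symm hvt, Or.inr rfl]
  -- `w` is central in `Q`
  have hwC : Cen w := by
    obtain ⟨h21, h22⟩ := orbit_three hd (hmove y hy hy1)
    set a := d * y * d⁻¹ with ha
    have ha' := hCconj _ hy
    have key : ∀ z, Cen z → z ∈ S → z ≠ 1 → Cen w := fun z hz hzS hz1 => by
      rcases hfixw z hzS (by rw [hz.2.2 y hy.1, mul_inv_cancel_right]) hz.2.1 with e | e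
      · exact absurd e hz1
      · exact e ▸ hz
    have hne : a ≠ y := hmove y hy hy1
    rcases hTsplit a (hQT ha'.1) with h1 | h1
    · exact key a ha' h1 (fun e => hy1 (conj_eq_one_iff.1 e))
    · refine key _ (hCmul _ _ hy ha') ?_ fun e => hne ?_
      · rcases hTsplit (y * a) (mul_mem hyT (hQT ha'.1)) with h2 | h2
        · exact h2
        · exfalso
          have h3 : g⁻¹ * y * a * (g⁻¹ * a)⁻¹ ∈ S := mul_mem (by simpa [mul_assoc] using h2) (inv_mem h1)
          have h4 : g⁻¹ * y * g ∈ S := by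
            convert h3 using 1
            group
          have h5 := mul_mem h4 (inv_mem hyg)
          refine hgS ?_
          have h6 : g⁻¹ * y * g * (g⁻¹ * y)⁻¹ = (g⁻¹ * y) * g * (g⁻¹ * y)⁻¹ := by group
          rw [h6] at h5
          have h7 := mul_mem (mul_mem (inv_mem hyg) h5) hyg
          convert h7 using 1
          group
      · exact (eq_inv_of_mul_eq_one_right e).trans (inv_eq_of_mul_eq_one_left hy.2.1)
  have hwy : Commute w y := (mul_inv_eq_iff_eq_mul.1 hyw).symm
  -- the centralizer of `⟨w, y⟩` in `S`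
  have hYshape : ∀ z, Cen z → z = 1 ∨ z = w ∨ z = y ∨ z = w * y := by
    intro z hz
    rcases hTsplit z (hQT hz.1) with h1 | h1
    · rcases hfixw z h1 (by rw [hz.2.2 y hy.1, mul_inv_cancel_right]) hz.2.1 with e | e
      · exact Or.inl e
      · exact Or.inr (Or.inl e)
    · have hzy := hCmul z y hz hy
      have hmemS : z * y ∈ S := by
        have h2 : (g⁻¹ * z)⁻¹ * (g⁻¹ * y) ∈ S := mul_mem (inv_mem h1) hyg
        convert h2 using 1
        rw [mul_inv_rev, inv_inv, mul_assoc z⁻¹, mul_inv_cancel_left, inv_eq_of_mul_eq_one_left hz.2.1]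
      rcases hfixw _ hmemS (by rw [hzy.2.2 y hy.1, mul_inv_cancel_right]) hzy.2.1 with e | e
      · exact Or.inr (Or.inr (Or.inl (by rw [eq_inv_of_mul_eq_one_left e, inv_eq_of_mul_eq_one_left hy.2.1])))
      · exact Or.inr (Or.inr (Or.inr (by rw [← e, mul_assoc, hy.2.1, mul_one])))
  have hCwT : centralizer ({w} : Set G) = (T : Subgroup G) := by
    have hle : (T : Subgroup G) ≤ centralizer ({w} : Set G) := fun k hk => by
      refine mem_centralizer_singleton_iff.2 ?_
      rcases hTsplit k hk with h1 | h1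
      · exact hSc k h1 w hwS
      · have h2 : Commute (g⁻¹ * k) w := hSc _ h1 w hwS
        have h3 : Commute g w := mul_inv_eq_iff_eq_mul.1 hgw
        have := h3.mul_left h2
        rwa [mul_inv_cancel_left] at this
    exact ((hTN ▸ h.coatom' hV1 (twoPr_pGroup Nat.prime_two hV2)).le_iff.1 hle).resolve_left
      (h.coatom_centralizer hw2).1
  have hCS : ∀ s ∈ S, y * s * y⁻¹ = s → s = 1 ∨ s = w := by
    intro s hs hsy
    by_cases hs2 : s * s = 1
    · exact hfixw s hs hsy hs2
    exfalso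
    -- a square root of `w` fixed by `y`
    have hsy' : Commute s y := (mul_inv_eq_iff_eq_mul.1 hsy).symm
    obtain ⟨k, hk⟩ := exists_pow_orderOf_two hS.isP (mul_mem hs hs) hs2
    have hsk : s ^ k ∈ S := pow_mem hs k
    have e : (s * s) ^ k = (s ^ k) * (s ^ k) := (Commute.refl s).mul_pow k
    have hsw : (s ^ k) * (s ^ k) = w := by
      rw [← e]
      exact (hfixw _ (pow_mem (mul_mem hs hs) k) (by
        rw [((hsy'.mul_left hsy').pow_left k).symm.eq, mul_inv_cancel_right]) (sq_eq_one_of_two hk)).resolve_left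
        (ne_one_of_orderOf (by norm_num) hk)
    set r := d * s ^ k * d⁻¹ with hr
    have hcomm : ∀ z, Cen z → Commute (s ^ k) z := by
      intro z hz
      rcases hYshape z hz with rfl | rfl | rfl | rfl
      exacts [Commute.one_right _, hSc _ hsk _ hwS, hsy'.pow_left k,
        (show Commute (s ^ k) w from hSc _ hsk _ hwS).mul_right (hsy'.pow_left k)]
    have hrcomm : ∀ z, Cen z → Commute r z := by
      intro z hz
      have hz' : Cen (d⁻¹ * z * d) := by
        obtain ⟨j, hj⟩ : ∃ j : ℕ, d⁻¹ = d ^ j := mem_powers_iff_mem_zpowers.2 (inv_mem (mem_zpowers d)) |>.imp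
          fun j e => e.symm
        have hiter : ∀ i : ℕ, Cen (d ^ i * z * (d ^ i)⁻¹) := fun i => by
          induction i with
          | zero => simpa using hz
          | succ i ih =>
            have := hCconj _ ih
            rw [pow_succ', mul_inv_rev]
            simpa [mul_assoc] using this
        have := hiter j
        rwa [← hj, inv_inv] at this
      have := hcomm _ hz'
      show r * z = z * r
      calc r * z = d * (s ^ k * (d⁻¹ * z * d)) * d⁻¹ := by rw [hr]; group
        _ = d * ((d⁻¹ * z * d) * s ^ k) * d⁻¹ := by rw [this.eq]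
        _ = _ := by rw [hr]; group
    have hrT : r ∈ (T : Subgroup G) := hCwT ▸ mem_centralizer_singleton_iff.2 (hrcomm w hwC).eq
    have hr2 : r * r = d * w * d⁻¹ := by
      rw [hr, show d * s ^ k * d⁻¹ * (d * s ^ k * d⁻¹) = d * (s ^ k * s ^ k) * d⁻¹ by group, hsw]
    have hdwS : d * w * d⁻¹ ∈ S := by
      rw [← hr2]
      rcases hTsplit r hrT with h1 | h1
      · exact mul_mem h1 h1
      · have h2 : (g⁻¹ * y)⁻¹ * (g⁻¹ * r) ∈ S := mul_mem (inv_mem hyg) h1
        rw [mul_inv_rev, inv_inv, mul_assoc y⁻¹, mul_inv_cancel_left, inv_eq_of_mul_eq_one_left hy.2.1] at h2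
        convert mul_mem h2 h2 using 1
        rw [show y * r * (y * r) = y * (r * y) * r by group, (hrcomm y hy).eq, ← mul_assoc y y r, hy.2.1, one_mul]
    refine hmove w hwC hw1 ((hfixw _ hdwS ?_ (hCconj _ hwC).2.1).resolve_left fun e => hw1 (conj_eq_one_iff.1 e))
    rw [(hCconj _ hwC).2.2 y hy.1, mul_inv_cancel_right]
  -- the exponent of `S` is two
  have hexp : ∀ s ∈ S, s * s = 1 := by
    by_contra hno
    push Not at hno
    obtain ⟨s, hs, hs2⟩ := hno
    have hyS' : ∀ s ∈ S, y * s * y⁻¹ ∈ S := fun s hs => by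
      have e : y * s * y⁻¹ = g * ((g⁻¹ * y) * s * (g⁻¹ * y)⁻¹) * g⁻¹ := by group
      rw [e]
      exact (mem_normalizer_iff.1 hgN _).1 (mul_mem (mul_mem hyg hs) (inv_mem hyg))
    have hinvol : ∀ s ∈ S, y * (y * s * y⁻¹) * y⁻¹ = s := fun s _ => by
      rw [show y * (y * s * y⁻¹) * y⁻¹ = (y * y) * s * (y * y)⁻¹ by group, hy.2.1]; group
    have hrel : ∀ s ∈ S, s * (y * s * y⁻¹) = 1 ∨ s * (y * s * y⁻¹) = w := fun s hs => by
      refine hCS _ (mul_mem hs (hyS' s hs)) ?_
      rw [show y * (s * (y * s * y⁻¹)) * y⁻¹ = (y * s * y⁻¹) * (y * (y * s * y⁻¹) * y⁻¹) by group, hinvol s hs,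
        hSc _ (hyS' s hs) s hs]
    obtain ⟨k, hk⟩ := exists_pow_orderOf_two hS.isP (mul_mem hs hs) hs2
    set e := s ^ k with he
    have heS : e ∈ S := pow_mem hs k
    have hee : orderOf (e * e) = 2 := by
      rw [he, ← (Commute.refl s).mul_pow k]; exact hk
    have hee1 := ne_one_of_orderOf (by norm_num) hee
    have hyee : y * (e * e) * y⁻¹ = e * e := by
      have hye : y * e * y⁻¹ = e⁻¹ ∨ y * e * y⁻¹ = e⁻¹ * w := by
        rcases hrel e heS with h1 | h1
        · exact Or.inl (eq_inv_of_mul_eq_one_right h1)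
        · exact Or.inr (by rw [← h1, inv_mul_cancel_left])
      rw [show y * (e * e) * y⁻¹ = (y * e * y⁻¹) * (y * e * y⁻¹) by group]
      rcases hye with h1 | h1 <;> rw [h1]
      · rw [← mul_inv_rev, inv_eq_self_of_two hee]
      · rw [show e⁻¹ * w * (e⁻¹ * w) = e⁻¹ * (w * e⁻¹) * w by group, hSc w hwS _ (inv_mem heS),
          ← mul_assoc e⁻¹ e⁻¹ w, ← mul_inv_rev, inv_eq_self_of_two hee, mul_assoc, hwsq, mul_one]
    have hew : e * e = w := (hCS _ (mul_mem heS heS) hyee).resolve_left hee1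
    rcases hrel e heS with h1 | h1
    · have hye : y * e * y⁻¹ = e⁻¹ := eq_inv_of_mul_eq_one_right h1
      have h2 : y * (t * e) * y⁻¹ = t * e := by
        rw [show y * (t * e) * y⁻¹ = (y * t * y⁻¹) * (y * e * y⁻¹) by group, hyt, hye]
        rw [show v = t * (e * e) by rw [hew, hw, ← mul_assoc, sq_eq_one_of_two m.ht, one_mul]]
        group
      rcases hCS _ (mul_mem htS heS) h2 with h3 | h3
      · exact hee1 (by rw [eq_inv_of_mul_eq_one_right h3, inv_eq_self_of_two m.ht, sq_eq_one_of_two m.ht])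
      · exact hee1 (by rw [mul_left_cancel h3, sq_eq_one_of_two hv2])
    · have hye : y * e * y⁻¹ = e := mul_left_cancel (h1.trans hew.symm)
      rcases hCS e heS hye with h2 | h2
      · exact hee1 (by rw [h2, mul_one])
      · exact hee1 (by rw [h2, hwsq])
  classical
  have hS4 : Nat.card S = 4 := by
    haveI := Fintype.ofFinite S
    have hall : (Finset.univ : Finset S).image (fun s : S => (s : G)) = {1, t, v, w} := by
      ext z
      simp only [Finset.mem_image, Finset.mem_univ, true_and, Finset.mem_insert, Finset.mem_singleton]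
      constructor
      · rintro ⟨s, rfl⟩; exact hmem s s.2 (hexp s s.2)
      · rintro (rfl | rfl | rfl | rfl)
        exacts [⟨⟨1, S.one_mem⟩, rfl⟩, ⟨⟨_, htS⟩, rfl⟩, ⟨⟨_, hv⟩, rfl⟩, ⟨⟨_, hwS⟩, rfl⟩]
    rw [Nat.card_eq_fintype_card, ← Finset.card_univ,
      ← Finset.card_image_of_injective _ (Subtype.val_injective : Function.Injective (fun s : S => (s : G))),
      hall]
    have h1t := (ne_one_of_orderOf (by norm_num) m.ht).symm
    have h1v := (ne_one_of_orderOf (by norm_num) hv2).symm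
    simp [h1t, h1v, hw1.symm, Ne.symm hvt, Ne.symm hwt, Ne.symm hwv]
  have hsub : (S.subgroupOf (T : Subgroup G)).index = 2 := by
    refine index_eq_two_iff.2 ⟨⟨g, hgT⟩, fun c => ?_⟩
    rw [mem_subgroupOf, mem_subgroupOf, Subgroup.coe_mul]
    rcases hTsplit c c.2 with h1 | h1
    · refine Or.inr ⟨h1, fun h2 => hgS ?_⟩
      have := mul_mem (inv_mem h1) h2
      rwa [inv_mul_cancel_left] at this
    · refine Or.inl ⟨?_, fun h2 => hgS ?_⟩
      · have hgg : g * g ∈ S := hNfix _ (mul_mem hgV hgV) (by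
          rw [show g * g * t * (g * g)⁻¹ = g * (g * t * g⁻¹) * g⁻¹ by group]; exact hgv)
        have h3 : g * (g⁻¹ * (c : G)) * g⁻¹ ∈ S := (mem_normalizer_iff.1 hgN _).1 h1
        have := mul_mem h3 hgg
        convert this using 1
        group
      · have := mul_mem h2 (inv_mem h1)
        rwa [mul_inv_rev, inv_inv, mul_inv_cancel_left] at this
  refine ⟨hSc, ?_, fun hc => hvt ?_⟩
  · have h1 := (S.subgroupOf (T : Subgroup G)).card_mul_index
    rw [Nat.card_congr (subgroupOfEquivOfLe hST).toEquiv, hS4, hsub] at h1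
    exact h1.symm
  · rw [hvdef, hc g hgT t (hST htS), mul_inv_cancel_right]

end MN

end Cfsg.Agent.Invol.MaxNorm
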