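import Cfsg.Agent.Lib.Invol.MaxNorm.LinearMain

/-!
# Maximal normalisers: trivial radical forces `PSL(2,13)` (for S4233)
-/

set_option autoImplicit false
set_option linter.style.haveILetI false

namespace Cfsg.Agent.Invol.MaxNorm

open Subgroup

universe u

variable {G : Type u} [Group G] [Finite G]

/-- The conclusion for trivial radical. -/
theorem MN.iso_thirteen (h : MN G) :
    Nonempty (G ≃* Matrix.ProjectiveSpecialLinearGroup (Fin 2) (ZMod 13)) := by
  obtain ⟨M, hM⟩ := h.exists_socle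
  obtain ⟨F, i1, i2, hodd, h3, ⟨e⟩⟩ := h.socle_psl hM
  have s := SocPSL.of_iso hM e
  have hpr := h.field_prime s hodd h3
  haveI := Fact.mk hpr
  haveI : Fact (Nat.Prime 13) := ⟨by norm_num⟩
  haveI : CharP F (Fintype.card F) := charP_of_card_eq_prime_pow (p := Fintype.card F) (f := 1) (pow_one _).symm
  obtain ⟨h13, hidx⟩ := h.eq_thirteen s hodd h3 (Fintype.card F) rfl
  haveI : CharP F 13 := charP_of_card_eq_prime_pow (p := 13) (f := 1) (by rw [h13, pow_one])
  obtain ⟨i⟩ := Dickson.nonempty_psl_congr (ZMod.ringEquiv F h13).symm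
  exact ⟨(MulEquiv.ofBijective _ ⟨s.inj, MonoidHom.range_eq_top.1 (index_eq_one.1 hidx)⟩).symm.trans i⟩

end Cfsg.Agent.Invol.MaxNorm
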